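import Cfsg.Agent.LV.T.Defs

/-!
# The eigenvalues of `T_v ^ 2`: box Z of the level theorem (project LV; helper89)

On an eigenspace of `z = (t₁ ⋯ t_r) ^ 2` the determinant of each `t_i` is `± q ^ k`; so the eigenvalues of a power of `z`
are powers of `q`.
-/

set_option autoImplicit false
set_option linter.dupNamespace false

namespace Cfsg.Agent.LV.T

open Polynomial

section eig

variable {K V : Type*} [Field K] [IsAlgClosed K] [AddCommGroup V] [Module K V] [FiniteDimensional K V] {q : K}

omit [IsAlgClosed K] in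
theorem z_sq_prod (s : Multiset K) (h : ∀ x ∈ s, x = q ∨ x = -1) : ∃ k, k ≤ 2 * s.card ∧ s.prod ^ 2 = q ^ k := by
  induction s using Multiset.induction_on with
  | empty => exact ⟨0, by simp, by simp⟩
  | cons a s ih =>
    obtain ⟨k, hk, e⟩ := ih fun x hx => h x (Multiset.mem_cons_of_mem hx)
    rw [Multiset.prod_cons, mul_pow, e, Multiset.card_cons]
    rcases h a (Multiset.mem_cons_self a s) with rfl | rfl
    · exact ⟨k + 2, by omega, by ring⟩
    · exact ⟨k, by omega, by ring⟩

theorem z_det_sq {t : Module.End K V} (ht : t * t = (q - 1) • t + q • 1) :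
    ∃ k, k ≤ 2 * Module.finrank K V ∧ LinearMap.det t ^ 2 = q ^ k := by
  have hs : t.charpoly.Splits := IsAlgClosed.splits _
  rw [Module.End.det_eq_prod_roots_charpoly_of_splits hs, ← t.charpoly_natDegree, hs.natDegree_eq_card_roots]
  refine z_sq_prod _ fun x hx => ?_
  obtain ⟨v, hv⟩ :=
    ((Module.End.hasEigenvalue_iff_isRoot_charpoly t x).2 (isRoot_of_mem_roots hx)).exists_hasEigenvector
  have h1 := LinearMap.congr_fun ht v
  simp only [Module.End.mul_apply, LinearMap.add_apply, LinearMap.smul_apply, Module.End.one_apply, hv.apply_eq_smul,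
    map_smul, smul_smul, ← add_smul] at h1
  have h2 : x * x = (q - 1) * x + q := smul_left_injective K hv.2 h1
  have h3 : (x - q) * (x + 1) = 0 := by linear_combination h2
  rcases mul_eq_zero.1 h3 with h | h
  · exact Or.inl (sub_eq_zero.1 h)
  · exact Or.inr (eq_neg_of_add_eq_zero_left h)

theorem z_restr (E : Submodule K V) (l : List (Module.End K V))
    (hl : ∀ t ∈ l, t * t = (q - 1) • t + q • 1 ∧ ∀ x ∈ E, t x ∈ E) :
    ∃ (g : Module.End K E) (k : ℕ), (∀ x : E, (g x : V) = l.prod x) ∧ k ≤ 2 * Module.finrank K E * l.length ∧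
      LinearMap.det g ^ 2 = q ^ k := by
  induction l with
  | nil => exact ⟨1, 0, fun _ => rfl, by simp, by simp⟩
  | cons t l ih =>
    obtain ⟨g, k, hg, hk, e⟩ := ih fun t ht => hl t (List.mem_cons_of_mem _ ht)
    obtain ⟨ht, hE⟩ := hl t List.mem_cons_self
    have h1 : (t.restrict hE : Module.End K E) * t.restrict hE = (q - 1) • (t.restrict hE : Module.End K E) + q • 1 :=
      LinearMap.ext fun x => Subtype.ext (LinearMap.congr_fun ht x)
    obtain ⟨k', hk', e'⟩ := z_det_sq h1
    refine ⟨t.restrict hE * g, k' + k, fun x => ?_, ?_, ?_⟩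
    · rw [List.prod_cons, Module.End.mul_apply, Module.End.mul_apply, ← hg]
      rfl
    · rw [List.length_cons, mul_add, mul_one]
      omega
    · rw [map_mul, mul_pow, e, e', pow_add]

theorem z_eig (l : List (Module.End K V)) (hl : ∀ t ∈ l, t * t = (q - 1) • t + q • 1 ∧ Commute t (l.prod ^ 2))
    {μ : K} (hμ : (l.prod ^ 2).HasEigenvalue μ) :
    ∃ j, j ≤ 2 * l.length * (Module.finrank K V).factorial ∧ μ ^ (Module.finrank K V).factorial = q ^ j := by
  obtain ⟨g, k, hg, hk, e⟩ := z_restr (q := q) ((l.prod ^ 2).eigenspace μ) l fun t ht => ⟨(hl t ht).1, fun x hx => by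
    rw [Module.End.mem_eigenspace_iff] at hx ⊢
    rw [← Module.End.mul_apply, ← (hl t ht).2.eq, Module.End.mul_apply, hx, map_smul]⟩
  have h1 : g * g = μ • 1 := LinearMap.ext fun x => Subtype.ext (by
    rw [Module.End.mul_apply, hg, hg, ← Module.End.mul_apply, ← pow_two, Module.End.mem_eigenspace_iff.1 x.2]
    rfl)
  have h2 : μ ^ Module.finrank K ((l.prod ^ 2).eigenspace μ) = q ^ k := by
    rw [← e, pow_two (LinearMap.det g), ← map_mul, h1, LinearMap.det_smul, map_one, mul_one]
  have h3 : 0 < Module.finrank K ((l.prod ^ 2).eigenspace μ) :=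
    Nat.pos_of_ne_zero fun h => hμ (Submodule.finrank_eq_zero.1 h)
  obtain ⟨c, hc⟩ := Nat.dvd_factorial h3 (Submodule.finrank_le _)
  refine ⟨k * c, ?_, by rw [hc, pow_mul, h2, pow_mul]⟩
  rw [hc]
  calc k * c ≤ 2 * Module.finrank K ((l.prod ^ 2).eigenspace μ) * l.length * c := Nat.mul_le_mul_right c hk
    _ = _ := by ring

theorem z_nilp (z : Module.End K V) (P : K[X]) (h : ∀ μ, z.HasEigenvalue μ → P.IsRoot μ) :
    aeval z P ^ Module.finrank K V = 0 := by
  have hs : z.charpoly.Splits := IsAlgClosed.splits _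
  have h1 : z.charpoly ∣ P ^ Module.finrank K V := by
    rw [← z.charpoly_natDegree, hs.natDegree_eq_card_roots, ← Multiset.prod_replicate, ← Multiset.map_const']
    conv_lhs => rw [hs.eq_prod_roots_of_monic z.charpoly_monic]
    exact Multiset.prod_dvd_prod_of_dvd _ _ fun a ha => dvd_iff_isRoot.2
      (h a ((Module.End.hasEigenvalue_iff_isRoot_charpoly z a).2 (isRoot_of_mem_roots ha)))
  obtain ⟨c, hc⟩ := h1
  rw [← map_pow, hc, map_mul, LinearMap.aeval_self_charpoly, zero_mul]

theorem z_end (l : List (Module.End K V)) (hl : ∀ t ∈ l, t * t = (q - 1) • t + q • 1 ∧ Commute t (l.prod ^ 2)) :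
    ∃ m n k : ℕ, 0 < m ∧ ((List.range (n + 1)).map fun j => (l.prod ^ 2) ^ m - q ^ j • 1).prod ^ k = 0 := by
  refine ⟨(Module.finrank K V).factorial, 2 * l.length * (Module.finrank K V).factorial, Module.finrank K V,
    Nat.factorial_pos _, ?_⟩
  have h := z_nilp (l.prod ^ 2) ((List.range (2 * l.length * (Module.finrank K V).factorial + 1)).map
    fun j => X ^ (Module.finrank K V).factorial - C (q ^ j)).prod fun μ hμ => by
      obtain ⟨j, hj, e⟩ := z_eig l hl hμ
      refine dvd_iff_isRoot.1 (dvd_trans (dvd_iff_isRoot.2 ?_)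
        (List.dvd_prod (List.mem_map_of_mem (List.mem_range.2 (Nat.lt_succ_of_le hj)))))
      rw [IsRoot, eval_sub, eval_pow, eval_X, eval_C, e, sub_self]
  rw [map_list_prod, List.map_map] at h
  refine Eq.trans ?_ h
  congr 2
  refine List.map_congr_left fun j _ => ?_
  rw [Function.comp_apply, map_sub, map_pow, aeval_X, aeval_C, Algebra.algebraMap_eq_smul_one]

end eig

theorem co_lift {I W : Type*} {M : CoxeterMatrix I} [Group W] {cs : CoxeterSystem M W} [Fintype W] {R R' : Type*}
    [CommRing R] [CommRing R'] (f : R →+* R') {q : R} (a : Hk cs q) (w : W) :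
    co ((rep_T cs (f q)).lift a) w = f (co a w) := congrFun (co_mk cs (f q) fun w => f (co a w)) w

theorem boxZ : BoxZ := by
  intro I W M _ cs _ ω _ hc
  let K := AlgebraicClosure (FractionRing ℤ[X])
  let f : ℤ[X] →+* K := (algebraMap (FractionRing ℤ[X]) K).comp (algebraMap ℤ[X] (FractionRing ℤ[X]))
  have hf : Function.Injective f := (algebraMap (FractionRing ℤ[X]) K).injective.comp (IsFractionRing.injective _ _)
  let φ : Hk cs (X : ℤ[X]) →+* Module.End K (W → K) := (Hk cs (f X)).val.toRingHom.comp (rep_T cs (f X)).lift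
  have hφ : Function.Injective φ := fun a b h => co_inj (funext fun w => hf (by
    rw [← co_lift f a, ← co_lift f b, show (rep_T cs (f X)).lift a = (rep_T cs (f X)).lift b from Subtype.ext h]))
  have hs : ∀ (c : ℤ[X]) (a : Hk cs (X : ℤ[X])), φ (c • a) = f c • φ a := fun c a =>
    congrArg Subtype.val ((rep_T cs (f X)).lift_smul c a)
  have h1 : (ω.map fun i => φ (Ts cs X i)).prod = φ (Tw cs X ω) := by rw [Tw, map_list_prod, List.map_map]; rfl
  obtain ⟨m, n, k, hm, h⟩ := z_end (q := f X) (ω.map fun i => φ (Ts cs X i)) fun t ht => by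
    obtain ⟨i, hi, rfl⟩ := List.mem_map.1 ht
    refine ⟨?_, ?_⟩
    · rw [← map_mul, Ts_sq, map_add, hs, hs, map_sub, map_one, map_one]
    · rw [h1, ← map_pow]
      exact (hc i hi).map φ
  refine ⟨m, n, k, hm, hφ ?_⟩
  rw [map_zero, map_pow, map_list_prod, List.map_map]
  refine Eq.trans ?_ h
  congr 2
  refine List.map_congr_left fun j _ => ?_
  refine (map_sub φ _ _).trans ?_
  rw [map_pow, map_pow, hs, map_pow, map_one, h1]

end Cfsg.Agent.LV.T
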