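import Cfsg.Agent.LV.T.Sp
import Cfsg.Agent.LV.T.Z

/-!
# Level projections (project LV; helper8)
-/

set_option autoImplicit false
set_option linter.unusedSectionVars false
set_option linter.dupNamespace false

namespace Cfsg.Agent.LV.T

open CoxeterSystem Cfsg.Agent.Tits.Exchange Cfsg.Agent.Tits.Core Polynomial

namespace Lvl

variable {I W : Type*} {M : CoxeterMatrix I} [Group W] {cs : CoxeterSystem M W} [Fintype W]

theorem f1_X : ((Int.castRingHom ℂ).comp (evalRingHom 1)) (X : ℤ[X]) = 1 := by simp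

variable (cs) in
/-- specialisation to the group algebra -/
noncomputable def sp : Hk cs (X : ℤ[X]) →+* Hk cs (1 : ℂ) := bc cs _ f1_X

theorem sp_T (w : W) : sp cs (T cs X w) = T cs 1 w := bc_T _ _ w

theorem sp_eps (a : Hk cs (X : ℤ[X])) : sp cs ((X - 1 : ℤ[X]) • a) = 0 := by
  rw [sp, bc_smul, map_sub, f1_X, map_one, sub_self, zero_smul]

theorem co_sp (a : Hk cs (X : ℤ[X])) (w : W) : co (sp cs a) w = (((co a w).eval 1 : ℤ) : ℂ) := co_bc _ _ a w

/-- the first order term of `T_ω T_{ω⁻¹}` -/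
theorem first (ω : List I) : ∃ B : Hk cs (X : ℤ[X]), Tw cs X ω * Tw cs X ω.reverse = 1 + (X - 1 : ℤ[X]) • B ∧
    sp cs B = (ω.length : ℂ) • 1 + ((cs.leftInvSeq ω).map (T cs 1)).sum := by
  induction ω with
  | nil => exact ⟨0, by simp [Tw_nil], by simp⟩
  | cons i ω ih =>
    obtain ⟨B, h1, h2⟩ := ih
    refine ⟨Ts cs X i + 1 + Ts cs X i * B * Ts cs X i, ?_, ?_⟩
    · rw [List.reverse_cons, Tw_cons, Tw_append, Tw_cons, Tw_nil, mul_one, mul_assoc, ← mul_assoc (Tw cs X ω), h1,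
        add_mul, one_mul, mul_add, Ts_sq, smul_mul_assoc, mul_smul_comm, mul_assoc]
      module
    · have h3 : cs.leftInvSeq (i :: ω) = cs.simple i :: List.map (MulAut.conj (cs.simple i)) (cs.leftInvSeq ω) := rfl
      have h4 : ∀ l : List W, T cs (1 : ℂ) (cs.simple i) * (l.map (T cs 1)).sum * T cs 1 (cs.simple i) =
          ((l.map (MulAut.conj (cs.simple i))).map (T cs 1)).sum := fun l => by
        induction l with
        | nil => simp
        | cons t l ih =>
          simp only [List.map_cons, List.sum_cons]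
          rw [mul_add, add_mul, ih, T_mul_one, T_mul_one, MulAut.conj_apply, cs.inv_simple]
      rw [map_add, map_add, map_mul, map_mul, map_one, ← T_simple, sp_T, h2, h3, List.map_cons, List.sum_cons, mul_add,
        add_mul, h4, mul_smul_comm, smul_mul_assoc, mul_one, T_mul_one, cs.simple_mul_simple_self, T_one,
        List.length_cons, Nat.cast_succ, add_smul, one_smul]
      abel

theorem power (B : Hk cs (X : ℤ[X])) (m : ℕ) : ∃ C : Hk cs (X : ℤ[X]),
    (1 + (X - 1 : ℤ[X]) • B) ^ m = 1 + (X - 1 : ℤ[X]) • C ∧ sp cs C = (m : ℂ) • sp cs B := by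
  induction m with
  | zero => exact ⟨0, by simp, by simp⟩
  | succ m ih =>
    obtain ⟨C, h1, h2⟩ := ih
    refine ⟨C + B + (X - 1 : ℤ[X]) • (C * B), ?_, ?_⟩
    · rw [pow_succ, h1, add_mul, mul_add, mul_add, one_mul, one_mul, mul_one, smul_mul_assoc, mul_smul_comm, smul_add,
        smul_add]
      abel
    · rw [map_add, map_add, sp_eps, h2, add_zero, Nat.cast_succ, add_smul, one_smul]

/-- `1 + X + .. + X ^ (j - 1)` -/
noncomputable def gs (j : ℕ) : ℤ[X] := ∑ i ∈ Finset.range j, X ^ i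

theorem gs_mul (j : ℕ) : (X - 1) * gs j = X ^ j - 1 := mul_geom_sum X j

theorem gs_one (j : ℕ) : (gs j).eval 1 = j := by simp [gs, eval_finsetSum]

theorem eps_ne : (X - 1 : ℤ[X]) ≠ 0 := by
  have := X_sub_C_ne_zero (1 : ℤ)
  rwa [C_1] at this

theorem unit_of_lt {i j : ℕ} (h : i < j) : IsUnit (gs j - gs i).trailingCoeff := by
  obtain ⟨k, rfl⟩ := Nat.exists_eq_add_of_lt h
  have h1 : gs (i + k + 1) - gs i = X ^ i * gs (k + 1) := by
    refine mul_left_cancel₀ eps_ne ?_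
    rw [mul_sub, gs_mul, gs_mul, mul_left_comm, gs_mul]; ring
  have h2 : (gs (k + 1)).coeff 0 = 1 := by simp [gs, Finset.sum_range_succ', coeff_X_pow]
  rw [h1, trailingCoeff_mul, trailingCoeff_eq_coeff_zero (p := gs (k + 1)) (by rw [h2]; exact one_ne_zero), h2, mul_one,
    trailingCoeff, natTrailingDegree_X_pow, coeff_X_pow_self]
  exact isUnit_one

theorem unit_of_ne {i j : ℕ} (h : i ≠ j) : IsUnit (gs j - gs i).trailingCoeff := by
  rcases h.lt_or_gt with h | h
  · exact unit_of_lt h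
  · have h1 : gs j - gs i = C (-1) * (gs i - gs j) := by rw [C_neg, C_1]; ring
    rw [h1, trailingCoeff_mul, trailingCoeff_eq_coeff_zero (by simp), coeff_C_zero]
    exact isUnit_one.neg.mul (unit_of_lt h)

theorem unit_prod (s : Finset ℕ) (f : ℕ → ℤ[X]) (h : ∀ i ∈ s, IsUnit (f i).trailingCoeff) :
    IsUnit (∏ i ∈ s, f i).trailingCoeff :=
  Finset.prod_induction f (fun P => IsUnit P.trailingCoeff) (fun a b ha hb => by rw [trailingCoeff_mul]; exact ha.mul hb)
    (by rw [trailingCoeff, natTrailingDegree_one, coeff_one_zero]; exact isUnit_one) h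

/-- `∏ (Y - [i])` -/
noncomputable def pp (s : Finset ℕ) : ℤ[X][X] := ∏ i ∈ s, (X - C (gs i))

theorem pp_map (s : Finset ℕ) (z : ℂ) :
    ((pp s).map ((Int.castRingHom ℂ).comp (evalRingHom 1))).eval z = ∏ i ∈ s, (z - i) := by
  rw [pp, Polynomial.map_prod, eval_prod]
  exact Finset.prod_congr rfl fun i _ => by simp [gs_one]

theorem pp_eval (s : Finset ℕ) (j : ℕ) : (pp s).eval (gs j) = ∏ i ∈ s, (gs j - gs i) := by
  rw [pp, eval_prod]
  exact Finset.prod_congr rfl fun i _ => by simp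

theorem list_eq (Cm : Hk cs (X : ℤ[X])) (r : ℕ) :
    ((List.range r).map fun j => 1 + (X - 1 : ℤ[X]) • Cm - (X ^ j : ℤ[X]) • 1).prod =
      (X - 1 : ℤ[X]) ^ r • aeval Cm (pp (Finset.range r)) := by
  induction r with
  | zero => simp [pp]
  | succ r ih =>
    have h1 : 1 + (X - 1 : ℤ[X]) • Cm - (X ^ r : ℤ[X]) • 1 = (X - 1 : ℤ[X]) • aeval Cm (X - C (gs r) : ℤ[X][X]) := by
      have h2 : (X ^ r : ℤ[X]) = (X - 1) * gs r + 1 := by rw [gs_mul, sub_add_cancel]
      rw [map_sub, aeval_X, aeval_C, Algebra.algebraMap_eq_smul_one, h2]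
      module
    rw [List.range_succ, List.map_append, List.prod_append, ih, List.map_singleton, List.prod_singleton, h1, pp, pp,
      Finset.prod_range_succ, map_mul, smul_mul_assoc, mul_smul_comm, smul_smul, pow_succ]

theorem idem {Cm : Hk cs (X : ℤ[X])} {s : Finset ℕ} (h : aeval Cm (pp s) = 0) {j : ℕ} (hj : j ∈ s) :
    aeval Cm (pp (s.erase j)) * aeval Cm (pp (s.erase j)) = (pp (s.erase j)).eval (gs j) • aeval Cm (pp (s.erase j)) := by
  obtain ⟨Q, hQ⟩ := X_sub_C_dvd_sub_C_eval (p := pp (s.erase j)) (a := gs j)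
  have h1 : pp (s.erase j) * pp (s.erase j) = Q * pp s + C ((pp (s.erase j)).eval (gs j)) * pp (s.erase j) := by
    have h2 : pp s = (X - C (gs j)) * pp (s.erase j) := (Finset.mul_prod_erase s (fun i => X - C (gs i)) hj).symm
    rw [h2]
    linear_combination pp (s.erase j) * hQ
  rw [← map_mul, h1, map_add, map_mul, h, mul_zero, zero_add, map_mul, aeval_C, Algebra.algebraMap_eq_smul_one,
    smul_mul_assoc, one_mul]

theorem pr_aeval {J : Set I} {c : Hk cs (1 : ℂ)} (hc : c ∈ HJ cs 1 J) {y : W → ℂ} {z : ℂ}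
    (h : ∀ a ∈ HJ cs (1 : ℂ) J, pr y (c * a) = z * pr y a) (P : ℂ[X]) {a : Hk cs (1 : ℂ)} (ha : a ∈ HJ cs 1 J) :
    pr y (aeval c P * a) = P.eval z * pr y a := by
  induction P using Polynomial.induction_on with
  | C r => rw [aeval_C, Algebra.algebraMap_eq_smul_one, smul_mul_assoc, one_mul, map_smul, eval_C, smul_eq_mul]
  | add P Q hP hQ => rw [map_add, add_mul, map_add, hP, hQ, eval_add, add_mul]
  | monomial n r ih =>
    have h1 : C r * X ^ (n + 1) = X * (C r * X ^ n) := by ring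
    rw [h1, map_mul (aeval c), aeval_X, mul_assoc, h _ (mul_mem (aeval_mem_adjoin_singleton ℂ c |> Algebra.adjoin_le
      (Set.singleton_subset_iff.2 hc)) ha), ih, eval_mul (p := X), eval_X, mul_assoc]

theorem sp_mem {J : Set I} {a : Hk cs (X : ℤ[X])} (ha : a ∈ HJ cs X J) : sp cs a ∈ HJ cs 1 J :=
  mem_HJ.2 fun w hw => by rw [co_sp, mem_HJ.1 ha w hw]; simp

theorem inv_mem {J : Set I} {ω : List I} (h : ∀ i ∈ ω, i ∈ J) : ∀ t ∈ cs.leftInvSeq ω, t ∈ WJ cs J := by
  induction ω with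
  | nil => intro t ht; simp at ht
  | cons i ω ih =>
    have h3 : cs.leftInvSeq (i :: ω) = cs.simple i :: List.map (MulAut.conj (cs.simple i)) (cs.leftInvSeq ω) := rfl
    have hi := simple_mem_WJ cs (h i (by simp))
    intro t ht
    rw [h3, List.mem_cons, List.mem_map] at ht
    rcases ht with rfl | ⟨t, ht, rfl⟩
    · exact hi
    · exact mul_mem (mul_mem hi (ih (fun j hj => h j (by simp [hj])) t ht)) (Subgroup.inv_mem _ hi)

theorem pr_list (l : List W) (y : W → ℂ) (a : Hk cs (1 : ℂ)) :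
    pr y ((l.map (T cs 1)).sum * a) = pr (fun u => (l.map fun t => y (t * u)).sum) a := by
  induction l with
  | nil => simp [pr_apply, co_zero]
  | cons t l ih =>
    simp only [List.map_cons, List.sum_cons]
    rw [add_mul, map_add, ih, pr_T_mul, pr_apply, pr_apply, pr_apply, ← Finset.sum_add_distrib]
    exact Finset.sum_congr rfl fun u _ => by ring

theorem pr_congr {J : Set I} {a : Hk cs (1 : ℂ)} (ha : a ∈ HJ cs 1 J) {y y' : W → ℂ} (h : ∀ u ∈ WJ cs J, y u = y' u) :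
    pr y a = pr y' a := by
  refine Finset.sum_congr rfl fun u _ => ?_
  by_cases hu : u ∈ WJ cs J
  · rw [h u hu]
  · rw [mem_HJ.1 ha u hu, zero_mul, zero_mul]

theorem pr_sum {ι : Type*} (s : Finset ι) (f : ι → W → ℂ) (a : Hk cs (1 : ℂ)) :
    pr (fun u => ∑ i ∈ s, f i u) a = ∑ i ∈ s, pr (f i) a := by
  simp only [pr_apply, Finset.mul_sum]
  exact Finset.sum_comm

variable {ψ : MulAut W} {J : Set I} {w : W} {ω : List I}

theorem comm_sq (h : Cas cs ψ J w ω) {i : I} (hi : i ∈ J) : Commute (Ts cs (X : ℤ[X]) i) (Tw cs X ω ^ 2) := by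
  obtain ⟨j, hj⟩ := h.norm i hi
  have h1 : cs.simple j * cs.wordProd ω = cs.wordProd ω * cs.simple i := by
    have h2 := congrArg (·⁻¹) hj
    simp only [mul_inv_rev, cs.inv_simple, inv_eq_of_mul_eq_one_right h.sq] at h2
    exact h2.symm
  show _ * _ = _ * _
  rw [Tw_eq cs X h.red, ← T_simple, sq, ← mul_assoc, (rep_T cs X).swap hj, mul_assoc, (rep_T cs X).swap h1, mul_assoc]

/-- The element `Cm` with `T_v ^ (2 m) = 1 + (X - 1) Cm`. -/
theorem exists_Cm {I W : Type} {M : CoxeterMatrix I} [Group W] {cs : CoxeterSystem M W} [Fintype W] {ψ : MulAut W}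
    {J : Set I} {w : W} {ω : List I} (hψ : Aut cs ψ) (hw : Min cs J w) (h : Cas cs ψ J w ω) :
    ∃ (Cm : Hk cs (X : ℤ[X])) (m r : ℕ), 0 < m ∧ Cm ∈ HJ cs X J ∧ (∀ a ∈ HJ cs X J, Commute a Cm) ∧
      (∀ x ∈ WJ cs J, Cm ∈ hψ.TC X (x * w)) ∧ aeval Cm (pp (Finset.range r)) = 0 ∧
      sp cs Cm = (m : ℂ) • ((ω.length : ℂ) • 1 + ((cs.leftInvSeq ω).map (T cs 1)).sum) := by
  obtain ⟨m, n, k, hm, h0⟩ := boxZ cs h.red fun i hi => comm_sq h (h.mem i hi)
  obtain ⟨B, h1, h2⟩ := first (cs := cs) ω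
  obtain ⟨Cm, h3, h4⟩ := power B m
  have hv := wordProd_mem_WJ cs h.mem
  have hi : (cs.wordProd ω)⁻¹ = cs.wordProd ω := inv_eq_of_mul_eq_one_right h.sq
  rw [Tw_eq cs X h.red.reverse, wordProd_reverse, hi, ← Tw_eq cs X h.red, ← sq] at h1
  rw [← h1] at h3
  have h5 : (X - 1 : ℤ[X]) • Cm = (Tw cs X ω ^ 2) ^ m + (-1 : ℤ[X]) • 1 := by rw [h3]; module
  have h6 : ∀ a ∈ HJ cs (X : ℤ[X]) J, Commute a (Tw cs X ω ^ 2) := fun a ha =>
    commute_of_HJ (fun i hi => comm_sq h hi) ha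
  refine ⟨Cm, m, n + 1, hm, HJ_cancel eps_ne ?_, fun a ha => smul_cancel eps_ne ?_,
    fun x hx => hψ.TC_cancel eps_ne ?_, ?_, by rw [h4, h2]⟩
  · rw [h5, Tw_eq cs X h.red]
    exact add_mem (pow_mem (pow_mem (T_mem_HJ hv) 2) m) (Subalgebra.smul_mem _ (one_mem _) _)
  · rw [← mul_smul_comm, ← smul_mul_assoc, h5]
    exact (((h6 a ha).pow_right m).add_right ((Commute.one_right a).smul_right _)).eq
  · rw [h5]
    refine add_mem (pow_mem ?_ m) (Subalgebra.smul_mem _ (one_mem _) _)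
    have h7 : Tw cs X ω ∈ hψ.TC (X : ℤ[X]) w := by
      rw [hψ.mem_TC, Tw_eq cs X h.red, tw_T, (rep_T cs X).mul (hw _ hv), (rep_T cs X).mul, h.comm]
      rw [← h.comm, hw _ hv, hψ.length, add_comm]
    rw [hψ.mem_TC, ← (rep_T cs X).mul (hw x hx), ← mul_assoc, ← (h6 _ (T_mem_HJ hx)).eq, mul_assoc,
      hψ.mem_TC.1 (pow_mem h7 2), mul_assoc]
  · have h7 : st Cm = Cm := by
      refine smul_cancel eps_ne ?_
      have h8 := st_aeval (a := Tw cs X ω) (by rw [Tw_eq cs X h.red, st_T, hi]) ((X ^ 2) ^ m + C (-1) : ℤ[X][X])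
      rw [map_add, map_pow, map_pow, aeval_X, aeval_C, Algebra.algebraMap_eq_smul_one, ← h5, st, Rep.lift_smul] at h8
      exact h8
    rw [h3, list_eq, _root_.smul_pow] at h0
    refine eq_zero_of_pow (st_aeval h7 _) (k := k) ?_
    rw [pow_succ, smul_cancel (pow_ne_zero k (pow_ne_zero (n + 1) eps_ne)) (h0.trans (smul_zero _).symm), zero_mul]

end Lvl

open Lvl in
/-- **(I3)** -/
theorem boxLevel : BoxLevel := by
  classical
  intro I W M _ cs _ ψ hψ J w y hy hw ω h ι s c f hf hc c₀ x hx A D hA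
  obtain ⟨Cm, m, r, hm, h1, h2, h3, h4, h5⟩ := exists_Cm hψ hw h
  have hA' : A ∈ HJ cs X J := mem_HJ.2 hA.supp
  have hm' : (m : ℂ) ≠ 0 := Nat.cast_ne_zero.2 hm.ne'
  -- the eigenvalues
  have e1 : ∀ i ∈ s, ∀ P : ℤ[X][X], pr (fun u => f i (u * (x * w))) (sp cs (aeval Cm P * A)) =
      (P.map ((Int.castRingHom ℂ).comp (evalRingHom 1))).eval (m * (ω.length + c i)) *
        pr (fun u => f i (u * (x * w))) (sp cs A) := fun i hi P => by
    rw [map_mul, sp, bc_aeval]
    refine pr_aeval (sp_mem h1) (fun a ha => ?_) _ (sp_mem hA')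
    show pr _ (sp cs Cm * a) = _
    rw [h5, smul_mul_assoc, map_smul, add_mul, map_add, smul_mul_assoc, one_mul, map_smul, pr_list,
      pr_congr ha (y := fun u => ((cs.leftInvSeq ω).map fun t => f i (t * u * (x * w))).sum)
        (y' := fun u => c i * f i (u * (x * w))) fun u hu => by
        simp only [mul_assoc]
        rw [← mul_assoc u x w]
        exact hc i hi _ (mul_mem hu hx)]
    simp only [pr_apply, smul_eq_mul, mul_left_comm _ (c i), ← Finset.mul_sum]
    ring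
  have e2 : ∀ i ∈ s, (∏ j ∈ Finset.range r, ((m : ℂ) * (ω.length + c i) - j)) *
      pr (fun u => f i (u * (x * w))) (sp cs A) = 0 := fun i hi => by
    rw [← pp_map, ← e1 i hi, h4, zero_mul, map_zero, map_zero]
  have e3 : ∑ u, (((co A u).eval 1 : ℤ) : ℂ) * ∑ i ∈ s.filter (fun i => c i = c₀), f i (u * (x * w)) =
      ∑ i ∈ s.filter (fun i => c i = c₀), pr (fun u => f i (u * (x * w))) (sp cs A) := by
    rw [← pr_sum, pr_apply]
    simp only [co_sp]
  rw [e3]
  by_cases hj : ∃ j ∈ Finset.range r, (m : ℂ) * (ω.length + c₀) = j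
  · obtain ⟨j, hj, e⟩ := hj
    set A' := aeval Cm (pp ((Finset.range r).erase j)) with hA'def
    set D' := (pp ((Finset.range r).erase j)).eval (gs j) with hD'
    have hadj : ∀ S : Subalgebra ℤ[X] (Hk cs (X : ℤ[X])), Cm ∈ S → A' ∈ S := fun S hS =>
      Algebra.adjoin_le (Set.singleton_subset_iff.2 hS) (aeval_mem_adjoin_singleton _ _)
    have k1 : A * A' = A' * A := (Subalgebra.mem_centralizer_iff _).1
      (hadj (Subalgebra.centralizer _ {A}) ((Subalgebra.mem_centralizer_iff _).2 (by rintro _ rfl; exact (h2 _ hA').eq)))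
      A rfl
    have k2 : ((D'.eval 1 : ℤ) : ℂ) = ∏ i ∈ (Finset.range r).erase j, ((j : ℂ) - i) := by
      rw [hD', pp_eval, eval_prod]
      simp [gs_one]
    have k3 : ((D'.eval 1 : ℤ) : ℂ) ≠ 0 := by
      rw [k2]
      exact Finset.prod_ne_zero_iff.2 fun i hi => sub_ne_zero.2 fun h => (Finset.mem_erase.1 hi).1 (Nat.cast_injective h).symm
    obtain ⟨n, hn⟩ := hy x hx (A' * A) (D' * D)
      ⟨mem_HJ.1 (mul_mem (hadj _ h1) hA'), by
        rw [mul_assoc, ← mul_assoc A, k1, mul_assoc, hA.idem, ← mul_assoc, idem h4 hj, smul_mul_assoc, mul_smul_comm,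
          smul_smul],
        hψ.mem_TC.1 (mul_mem (hadj _ (h3 x hx)) (hψ.mem_TC.2 hA.comm)), by
        rw [trailingCoeff_mul, hD', pp_eval]
        exact (unit_prod _ _ fun i hi => unit_of_ne (Finset.mem_erase.1 hi).1).mul hA.low, by
        rw [eval_mul]
        exact mul_ne_zero (Int.cast_ne_zero.1 k3) hA.one⟩
    refine ⟨n, mul_left_cancel₀ k3 ?_⟩
    have k4 : ∑ u, (((co (A' * A) u).eval 1 : ℤ) : ℂ) * y (u * (x * w)) =
        ∑ i ∈ s, pr (fun u => f i (u * (x * w))) (sp cs (A' * A)) := by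
      rw [← pr_sum, ← pr_congr (sp_mem (mul_mem (hadj _ h1) hA')) (y := fun u => y (u * (x * w))) fun u hu => by
        simp only [← mul_assoc u x w]
        exact hf _ (mul_mem hu hx), pr_apply]
      simp only [co_sp]
    rw [mul_left_comm, ← Int.cast_mul, ← eval_mul, ← hn, k4, Finset.mul_sum, Finset.sum_filter]
    refine Finset.sum_congr rfl fun i hi => ?_
    rw [e1 i hi, pp_map]
    split_ifs with h6
    · rw [h6, e, k2]
    · have h7 := e2 i hi
      rw [← Finset.mul_prod_erase _ _ hj, mul_assoc, mul_eq_zero] at h7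
      refine (h7.resolve_left fun h8 => h6 ?_).symm
      rw [sub_eq_zero, ← e] at h8
      exact add_left_cancel (mul_left_cancel₀ hm' h8)
  · refine ⟨0, ?_⟩
    rw [Int.cast_zero, zero_mul]
    refine Finset.sum_eq_zero fun i hi => ?_
    obtain ⟨hi, h6⟩ := Finset.mem_filter.1 hi
    refine (mul_eq_zero.1 (e2 i hi)).resolve_left (Finset.prod_ne_zero_iff.2 fun j hj' h7 => hj ⟨j, hj', ?_⟩)
    rw [← h6]
    exact sub_eq_zero.1 h7

end Cfsg.Agent.LV.T
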