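import Cfsg.Agent.LV.T.Defs
import Cfsg.Agent.KZ.Lie.Iface

/-!
# The level theorem: the boxes which involve the group (project LV; helper8)
-/

set_option autoImplicit false
set_option linter.unusedSectionVars false
set_option linter.dupNamespace false

namespace Cfsg.Agent.LV.T

open Cfsg Cfsg.Agent.DL Cfsg.Agent.DL.Lef Cfsg.Agent.KZ.Lie Polynomial

section model

variable {I W : Type*} {M : CoxeterMatrix I} [Group W] (cs : CoxeterSystem M W) (ψ : MulAut W)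

/-- `s u = q ^ N * tr (T_u P)` in an integral matrix representation of the Hecke algebra -/
def Mod (q : ℤ) (N : ℕ) (s : W → ℂ) : Prop :=
  ∃ (X : Type) (_ : Fintype X) (_ : DecidableEq X) (τ : W → Matrix X X ℤ) (P : Matrix X X ℤ),
    Rep cs q τ ∧ (∀ v, P * τ v = τ (ψ v) * P) ∧ ∀ u, s u = ((q ^ N * (τ u * P).trace : ℤ) : ℂ)

/-- The functions `R u` are the Lefschetz functions of traces of the Hecke algebras. -/
def Model (p : ℕ) {H : Type} [Group H] [Fintype H] (R : W → H → ℂ) : Prop :=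
  ∃ (e N : ℕ) (S : W → ℕ → H → ℂ), 0 < e ∧ (∀ u, Spectral H (S u)) ∧ (∀ u, lefFun (S u) = R u) ∧
    ∀ m, 0 < m → ∀ g, Mod cs ψ (((p : ℤ) ^ e) ^ m) N fun u => S u m g

end model

/-- The Hadamard quotient (box K). -/
def BoxK : Prop :=
  ∀ (p : ℕ) [Fact p.Prime] (e : ℕ), 0 < e → ∀ {H : Type} [Group H] [Fintype H] (E : ℕ → H → ℂ) (a : ℕ → H → ℤ)
    (D : ℤ[X]), Spectral H E → IsUnit D.trailingCoeff → D.eval 1 ≠ 0 →
    (∀ m, 0 < m → ∀ g, E m g = ((D.eval (((p : ℤ) ^ e) ^ m) * a m g : ℤ) : ℂ)) →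
    IsGeneralizedCharacter H ((((D.eval 1 : ℤ) : ℂ))⁻¹ • lefFun E)

/-- Shintani descent (box SH). -/
def BoxSh : Prop :=
  ∀ {p : ℕ} [Fact p.Prime] {k : Type} [Field k] [CharP k p] {Y : Type} [Group Y] {N : Type} [Fintype N]
    [DecidableEq N] {ρ : Y →* GL N k} {F : MulAut Y} {G : Subgroup Y} [IsAlgClosed k] {D : Datum p ρ F G} (f : Fr D)
    [Fintype ↥(GF F G)], D.QS → Model D.cs D.Fw p fun u => RW f u 1

/-- (I0), abstract form -/
def BoxModel : Prop :=
  ∀ {I W : Type} {M : CoxeterMatrix I} [Group W] (cs : CoxeterSystem M W) [Fintype W] (ψ : MulAut W) (p : ℕ)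
    [Fact p.Prime] {H : Type} [Group H] [Fintype H] (R : W → H → ℂ), Model cs ψ p R →
    ∀ χ : H → ℂ, IsGeneralizedCharacter H χ → Lv cs ψ Set.univ 1 fun u => classInner χ (R u)

/-- (I0) **the level theorem** for the unipotent Deligne-Lusztig characters -/
def BoxLv : Prop :=
  ∀ {p : ℕ} [Fact p.Prime] {k : Type} [Field k] [CharP k p] {Y : Type} [Group Y] {N : Type} [Fintype N]
    [DecidableEq N] {ρ : Y →* GL N k} {F : MulAut Y} {G : Subgroup Y} [IsAlgClosed k] {D : Datum p ρ F G} (f : Fr D)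
    [Fintype ↥(GF F G)] [Fintype D.W], D.QS → ∀ χ : ↥(GF F G) → ℂ, IsGeneralizedCharacter ↥(GF F G) χ →
    Lv D.cs D.Fw Set.univ 1 fun u => classInner χ (RW f u 1)

theorem boxLv_of (h : BoxModel) (h' : BoxSh) : BoxLv := by
  intro p _ k _ _ Y _ N _ _ ρ F G _ D f _ _ hq χ hχ
  exact h D.cs D.Fw p _ (h' f hq) χ hχ

theorem aut_Fw {p : ℕ} [Fact p.Prime] {k : Type} [Field k] [CharP k p] {Y : Type} [Group Y] {N : Type} [Fintype N]
    [DecidableEq N] {ρ : Y →* GL N k} {F : MulAut Y} {G : Subgroup Y} [IsAlgClosed k] {D : Datum p ρ F G}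
    (h : D.QS) : Aut D.cs D.Fw := fun i => ⟨_, h.Fw_simple i⟩

end Cfsg.Agent.LV.T
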