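import Cfsg.Agent.LV.T.ShA
import Cfsg.Agent.LV.T.Box
import Cfsg.Agent.KZ.Lie.ApiA

/-!
# LV, Shintani trace formula, part B: the counts on the Deligne-Lusztig varieties are traces (helper4)
-/

set_option autoImplicit false
set_option maxHeartbeats 400000
set_option linter.unusedSectionVars false

namespace Cfsg.Agent.LV.T.Sh

open Cfsg Cfsg.Agent.DL Cfsg.Agent.DL.Lef Cfsg.Agent.KZ.Lie Cfsg.Agent.DL.Asm Cfsg.Agent.DL.Uni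
  Cfsg.Agent.Nodes.BNOf Cfsg.Agent.Nodes.Reps

section abs

variable {Y : Type} [Group Y] {F σ : MulAut Y} {G U T : Subgroup Y}

/-- the points of a torus twisted by `l` -/
theorem cnt_tor {T' : Subgroup Y} (hc : ∀ a ∈ T', ∀ b ∈ T', a * b = b * a) (hF : ∀ t ∈ T', F t ∈ T')
    (hL : ∀ t ∈ T', ∃ b ∈ T', t = b * (σ b)⁻¹) {l : Y} (hl : l ∈ T') :
    CF.cnt F.toMonoidHom σ.toMonoidHom T' T' l 1 = Nat.card ↥(T' ⊓ Mk.fix σ) := by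
  obtain ⟨b, hb, e⟩ := hL _ (inv_mem hl)
  have h1 : σ b = l * b := by
    rw [hc l hl b hb, hc b hb l hl, ← inv_inj, mul_inv_rev, e]; group
  refine (Nat.card_congr (Equiv.subtypeEquiv (Equiv.mulLeft b) fun x => ?_)).symm
  show x ∈ T' ∧ σ x = x ↔ b * x ∈ T' ∧ (b * x)⁻¹ * F (b * x) ∈ T' ∧ σ (b * x) = l * (b * x) * 1⁻¹
  rw [map_mul σ, h1, inv_one, mul_one, mul_assoc, mul_right_inj, mul_right_inj, mul_mem_cancel_left hb]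
  exact and_congr_right fun hx => ⟨fun h => ⟨mul_mem (inv_mem (mul_mem hb hx)) (hF _ (mul_mem hb hx)), h⟩, fun h => h.2⟩

theorem card_cj_fix {y : Y} (hy : σ y = y) : Nat.card ↥(cj y T ⊓ Mk.fix σ) = Nat.card ↥(T ⊓ Mk.fix σ) := by
  refine Nat.card_congr (Equiv.subtypeEquiv (MulAut.conj y⁻¹).toEquiv fun x => ?_)
  show x ∈ cj y T ∧ σ x = x ↔ y⁻¹ * x * y⁻¹⁻¹ ∈ T ∧ σ (y⁻¹ * x * y⁻¹⁻¹) = y⁻¹ * x * y⁻¹⁻¹
  rw [inv_inv, mem_cj, map_mul, map_mul, map_inv, hy, mul_left_inj, mul_right_inj]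

/-- untwisting -/
theorem cnt_sub (hσU : ∀ u ∈ U, σ u ∈ U) (hσT : ∀ t ∈ T, σ t ∈ T)
    (huq : ∀ u ∈ U, ∀ u' ∈ U, ∀ t ∈ T, ∀ t' ∈ T, u * t = u' * t' → t = t') (hc : ∀ x, σ (F x) = F (σ x))
    {y a g : Y} (hy : y ∈ G) (ha : a ∈ G) (h1 : σ y = y) (h2 : σ a = g * a) (h3 : F g = g) :
    CF.cnt F.toMonoidHom σ.toMonoidHom G {z | ∃ v ∈ cj y U, ∃ t ∈ cj y T, z = v * t} g 1 =
      Nat.card {x : Y // x ∈ G ⊓ Mk.fix σ ∧ ∃ t ∈ T ⊓ Mk.fix σ,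
        x⁻¹ * (a⁻¹ * F a) * F x * (y⁻¹ * F y)⁻¹ * t⁻¹ ∈ U ⊓ Mk.fix σ} := by
  refine (Nat.card_congr (Equiv.subtypeEquiv ((Equiv.mulLeft a).trans (Equiv.mulRight y⁻¹)) fun x => ?_)).symm
  show (x ∈ G ∧ σ x = x) ∧ _ ↔ a * x * y⁻¹ ∈ G ∧ (∃ v ∈ cj y U, ∃ t ∈ cj y T, (a * x * y⁻¹)⁻¹ * F (a * x * y⁻¹) = v * t) ∧
    σ (a * x * y⁻¹) = g * (a * x * y⁻¹) * 1⁻¹
  have h4 : σ (a * x * y⁻¹) = g * (a * x * y⁻¹) * 1⁻¹ ↔ σ x = x := by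
    rw [map_mul, map_mul, map_inv, h1, h2, inv_one, mul_one, ← mul_assoc, ← mul_assoc, mul_left_inj, mul_right_inj]
  rw [h4, mul_mem_cancel_right (inv_mem hy), mul_mem_cancel_left ha, and_assoc, and_comm (b := σ x = x)]
  refine and_congr_right fun _ => and_congr_right fun hx => ?_
  obtain ⟨z, hz⟩ : ∃ z, z = x⁻¹ * (a⁻¹ * F a) * F x * (y⁻¹ * F y)⁻¹ := ⟨_, rfl⟩
  have h5 : σ z = z := by
    simp only [hz, map_mul, map_inv, hc, hx, h1, h2, h3]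
    group
  have h6 : (a * x * y⁻¹)⁻¹ * F (a * x * y⁻¹) = y * z * y⁻¹ := by
    simp only [hz, map_mul, map_inv]
    group
  rw [← hz, h6]
  constructor
  · rintro ⟨t, ht, h7⟩
    refine ⟨y * (z * t⁻¹) * y⁻¹, mem_cj.2 ?_, y * t * y⁻¹, mem_cj.2 ?_, by group⟩
    · convert (Subgroup.mem_inf.1 h7).1 using 1; group
    · convert (Subgroup.mem_inf.1 ht).1 using 1; group
  · rintro ⟨v, hv, t, ht, h7⟩
    have h8 : z = y⁻¹ * v * y * (y⁻¹ * t * y) := by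
      rw [show z = y⁻¹ * (y * z * y⁻¹) * y by group, h7]; group
    have h9 : σ (y⁻¹ * t * y) = y⁻¹ * t * y :=
      huq _ (hσU _ (mem_cj.1 hv)) _ (mem_cj.1 hv) _ (hσT _ (mem_cj.1 ht)) _ (mem_cj.1 ht) (by rw [← map_mul, ← h8, h5])
    refine ⟨_, ⟨mem_cj.1 ht, h9⟩, ?_, ?_⟩
    · rw [h8, mul_inv_cancel_right]; exact mem_cj.1 hv
    · show σ (z * _) = _
      rw [map_mul, map_inv, h5, h9]

end abs

variable {p : ℕ} [Fact p.Prime] {k : Type} [Field k] [CharP k p] {Y : Type} [Group Y] {N : Type} [Fintype N]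
  [DecidableEq N] {ρ : Y →* GL N k} {F : MulAut Y} {G : Subgroup Y} [IsAlgClosed k] {D : Datum p ρ F G}

/-- the averaged count at the level `m` -/
theorem cmp_mul {d e : ℕ} (H : D.Split d e) {y : Y} (hy : y ∈ G) (hn : y⁻¹ * F y ∈ D.NN) (hd : (F ^ d) y = y)
    [Fintype ↥(cj y D.T ⊓ GF F G)] {m : ℕ} (hm : 0 < m) (g : GF F G) {a : Y} (ha : a ∈ G)
    (h2 : ((F ^ d) ^ m) a = g * a) :
    Asm.cmp (GF F G) (cj y D.T ⊓ GF F G) (cn F G (cj y D.U) d) 1 m g * Nat.card ↥(D.T ⊓ Mk.fix ((F ^ d) ^ m)) =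
      Nat.card {x : Y // x ∈ G ⊓ Mk.fix ((F ^ d) ^ m) ∧ ∃ t ∈ D.T ⊓ Mk.fix ((F ^ d) ^ m),
        x⁻¹ * (a⁻¹ * F a) * F x * (y⁻¹ * F y)⁻¹ * t⁻¹ ∈ D.U ⊓ Mk.fix ((F ^ d) ^ m)} := by
  obtain ⟨n₀, h3, h4⟩ := H.exists_rp D.wF
  have A := Mk.frame D H h3 h4
  have B := Mk.pr_of D hy hd ((D.stable_iff hy).2 hn)
  have C := A.tor' B
  have L : Lev D (cj y D.T) (cj y D.U) d e := ⟨H, y, hy, rfl, rfl, (D.stable_iff hy).2 hn, hd⟩
  have h5 : cj y D.T ⊓ GF F G = CF.fixIn F.toMonoidHom (cj y D.T) := Subgroup.ext B.mem_K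
  have hσ : ∀ {K : Subgroup Y}, (∀ t ∈ K, (F ^ d) t ∈ K) → ∀ t ∈ K, ((F ^ d) ^ m) t ∈ K :=
    fun h t ht => Mk.pow_maps h m ht
  have hT : ∀ t ∈ D.T, (F ^ d) t ∈ D.T := fun t ht => Mk.pow_maps (fun _ => D.F_mem_T) d ht
  have hT' : ∀ t ∈ cj y D.T, (F ^ d) t ∈ cj y D.T := fun t ht => Mk.pow_maps C.maps d ht
  have huq : ∀ u ∈ D.U, ∀ u' ∈ D.U, ∀ t ∈ D.T, ∀ t' ∈ D.T, u * t = u' * t' → t = t' := fun u hu u' hu' t ht t' ht' e =>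
    D.sbn.uniq t (D.sbn.T_le ht) t' (D.sbn.T_le ht') (u⁻¹ * u') (mul_mem (inv_mem hu) hu') 1 (one_mem _)
      (by rw [mul_one, mul_assoc, ← e, inv_mul_cancel_left])
  have hfin : ∀ (K : Subgroup Y) (V : Set Y) (g t : Y), F t = t →
      (CF.pts F.toMonoidHom ((F ^ d) ^ m).toMonoidHom K V g t).Finite := fun K V g t ht => by
    rw [← pow_mul]
    exact CF.finite_ptsF (fun n hn => D.amb.finite_fix_pow hn) ht
      (CF.isOfFinOrder_of_fix (fun n hn => D.amb.finite_fix_pow hn) ht) (Nat.mul_pos H.d_pos hm)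
  rw [← cnt_sub (hσ A.σU) (hσ hT) huq (Mk.pow_pow_comm_apply F d m) hy ha (Mk.pow_fix hd m) h2 g.2.2,
    ← card_cj_fix (Mk.pow_fix hd m)]
  revert ‹Fintype ↥(cj y D.T ⊓ GF F G)›
  rw [h5]
  intro _
  obtain ⟨E⟩ := CF.nonempty_equiv_trans (F := F.toMonoidHom) (σ := ((F ^ d) ^ m).toMonoidHom) (H := G) (L := cj y D.T)
    (V := cj y D.U) (U := cj y D.T) (VU := {z | ∃ v ∈ cj y D.U, ∃ t ∈ cj y D.T, z = v * t}) L.pair.T_le
    (fun _ h => h) (fun _ => Iff.rfl) (fun l hl v hv => L.pair.norm hl hv)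
    (fun v hv v' hv' l hl l' hl' e => by
      have := huq _ (mem_cj.1 hv) _ (mem_cj.1 hv') _ (mem_cj.1 hl) _ (mem_cj.1 hl') (by
        rw [show ∀ a b : Y, y⁻¹ * a * y * (y⁻¹ * b * y) = y⁻¹ * (a * b) * y from fun a b => by group, e]; group)
      simpa using this)
    (fun t ht => by
      obtain ⟨b, hb, e⟩ := C.lang ht
      exact ⟨b⁻¹, inv_mem hb, by simpa using e⟩)
    C.maps (hσ hT') (hσ (K := cj y D.U) fun v hv => L.map_V hv) (Mk.pow_pow_comm_apply F d m) (g := g) g.2.2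
    (one_mem _)
  have := fun l : CF.fixIn F.toMonoidHom (cj y D.T) => (hfin G (cj y D.U) g l l.2.2).to_subtype
  have := fun l : CF.fixIn F.toMonoidHom (cj y D.T) => (hfin (cj y D.T) (cj y D.T) l 1 (map_one F)).to_subtype
  have h6 := Nat.card_congr E
  rw [Nat.card_prod, Nat.card_sigma, Finset.sum_congr rfl fun l _ => (Nat.card_prod _ _).trans (congrArg _
    (cnt_tor C.comm C.maps (fun t ht => C.lang_pow hm ht) l.2.1)), ← Finset.sum_mul] at h6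
  have h7 : (Nat.card (CF.fixIn F.toMonoidHom (cj y D.T)) : ℂ) ≠ 0 := Nat.cast_ne_zero.2 Nat.card_pos.ne'
  have h8 := congrArg (Nat.cast (R := ℂ)) h6
  push_cast at h8
  simp only [Asm.cmp, cn, CF.cntF_mul, Pi.one_apply, mul_one, CF.cnt]
  rw [mul_assoc, ← h8]
  field_simp

/-- the normalised counts on the variety of type `u` -/
noncomputable def Sq (D : Datum p ρ F G) (d e : ℕ) [∀ u, Fintype ↥(cj (yw D u) D.T ⊓ GF F G)] (u : D.W) (m : ℕ) : GF F G → ℂ :=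
  (((p : ℂ) ^ e) ^ D.cs.length u) ^ m • Asm.cmp (GF F G) (cj (yw D u) D.T ⊓ GF F G) (cn F G (cj (yw D u) D.U) d) 1 m

theorem exists_split (D : Datum p ρ F G) : ∃ d e, D.Split d e ∧ ∀ u, (F ^ d) (yw D u) = yw D u := by
  obtain ⟨d, e, H⟩ := D.exists_split'
  obtain ⟨m, hm, h⟩ := D.amb.exists_pow_fix (yw D)
  exact ⟨d * m, e * m, H.mul hm, fun u => by rw [mul_comm, pow_mul]; exact Mk.pow_fix (h u) d⟩

section

variable {d e : ℕ} (H : D.Split d e) (hd : ∀ u, (F ^ d) (yw D u) = yw D u) [∀ u, Fintype ↥(cj (yw D u) D.T ⊓ GF F G)]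
  [Fintype (GF F G)]

include H hd

theorem isInd (u : D.W) : IsInd (GF F G) (cj (yw D u) D.T ⊓ GF F G) (cn F G (cj (yw D u) D.U) d)
    (RV F G (cj (yw D u) D.T) (cj (yw D u) D.U)) :=
  Lev.isInd (e := e) ⟨H, _, yw_mem D u, rfl, rfl, (D.stable_iff (yw_mem D u)).2 ⟨_, yw_rp D u⟩, hd u⟩

omit H hd in
theorem expZ_q (e l : ℕ) : ExpZ fun m => (((p : ℂ) ^ e) ^ l) ^ m :=
  (expZ_geom 1 (x := ((p : ℂ) ^ e) ^ l) (pow_ne_zero _ (pow_ne_zero _ (Nat.cast_ne_zero.2 (Fact.out : p.Prime).ne_zero)))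
    ((isIntegral_natCast p).pow e |>.pow l)).congr fun _ _ => by simp

theorem spectral_Sq (u : D.W) : Spectral (GF F G) (Sq D d e u) :=
  ((isInd H hd u).spectral_cmp ⟨rfl, fun _ _ _ _ => (one_mul _).symm⟩).smul (expZ_q e _)

theorem lefFun_Sq (f : Fr D) (u : D.W) : lefFun (Sq D d e u) = RW f u 1 := by
  funext g
  have h1 := (isInd H hd u).spectral_cmp (θ := 1) ⟨rfl, fun _ _ _ _ => (one_mul _).symm⟩
  rw [← R_eq_RW f (yw_mem D u) (yw_rp D u) (lab_one f _) g,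
    Pair.R_eq Mk.mackey ⟨_, yw_mem D u, rfl, rfl, (D.stable_iff (yw_mem D u)).2 ⟨_, yw_rp D u⟩⟩ 1 g g.2]
  refine Eq.trans ?_ (congrFun ((isInd H hd u).res_eq 1) g).symm
  simp only [lefFun_apply, Sq, Pi.smul_apply, smul_eq_mul]
  rw [lef_mul (expZ_q e _).expC (h1.expC g),
    lef_pow (pow_ne_zero _ (pow_ne_zero _ (Nat.cast_ne_zero.2 (Fact.out : p.Prime).ne_zero))), one_mul]

/-- the count at the level `m` -/
theorem Sq_mul {m : ℕ} (hm : 0 < m) (g : GF F G) {a : Y} (ha : a ∈ G) (h2 : ((F ^ d) ^ m) a = g * a) (u : D.W) :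
    Sq D d e u m g * Nat.card ↥(D.T ⊓ Mk.fix ((F ^ d) ^ m)) = (((p : ℂ) ^ e) ^ m) ^ D.cs.length u *
      Nat.card {x : Y // x ∈ G ⊓ Mk.fix ((F ^ d) ^ m) ∧ ∃ t ∈ D.T ⊓ Mk.fix ((F ^ d) ^ m),
        x⁻¹ * (a⁻¹ * F a) * F x * ((yw D u)⁻¹ * F (yw D u))⁻¹ * t⁻¹ ∈ D.U ⊓ Mk.fix ((F ^ d) ^ m)} := by
  rw [← cmp_mul H (yw_mem D u) ⟨_, yw_rp D u⟩ (hd u) hm g ha h2, Sq, Pi.smul_apply, smul_eq_mul, mul_assoc,
    pow_right_comm]

theorem mod_Sq (hq : D.QS) {m : ℕ} (hm : 0 < m) (g : GF F G) :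
    Mod D.cs D.Fw (((p : ℤ) ^ e) ^ m) (RGD.Pos D.cs D.h).ncard fun u => Sq D d e u m g := by
  obtain ⟨n₀, h3, h4⟩ := H.exists_rp D.wF
  have A := Mk.frame D H h3 h4
  obtain ⟨b, hb, e1⟩ := (D.pow (Nat.mul_pos H.d_pos hm)).lang_G' (inv_mem g.2.1)
  have h2 : ((F ^ d) ^ m) b = g * b := by
    rw [← pow_mul, ← inv_mul_eq_iff_eq_mul, e1, inv_mul_cancel_right]
  have hc := Mk.pow_pow_comm_apply F d m
  have hF : ∀ {K : Subgroup Y}, (∀ x ∈ K, F x ∈ K) → ∀ x ∈ K ⊓ Mk.fix ((F ^ d) ^ m), F x ∈ K ⊓ Mk.fix ((F ^ d) ^ m) :=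
    fun h x hx => ⟨h x hx.1, (hc x).trans (congrArg F hx.2)⟩
  have := A.fin m hm
  have := Fintype.ofFinite ↥(G ⊓ Mk.fix ((F ^ d) ^ m))
  obtain ⟨Z, _, _, τ, P, k1, k2, k3, k4, k5⟩ := hecke (A.level m) (A.card_X hm) (F := F) (ψ := D.Fw)
    (hF fun _ => D.F_mem_G) (hF fun u hu => (hq.F_mem_U u).2 hu) (hF fun _ => D.F_mem_NN) (fun a ha => D.pr_F ha.1)
    (h := b⁻¹ * F b) ⟨G.mul_mem (G.inv_mem hb) (D.F_mem_G hb), by
      show ((F ^ d) ^ m) _ = _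
      rw [map_mul, map_inv, hc, h2, map_mul, (mem_GF.1 g.2).2]; group⟩
  refine ⟨Z, inferInstance, inferInstance, τ, P, ⟨k1, k2, fun i => by exact_mod_cast k3 i⟩, k4, fun u => ?_⟩
  have h5 := k5 ((yw D u)⁻¹ * F (yw D u)) ⟨⟨_, yw_rp D u⟩, by
    show ((F ^ d) ^ m) _ = _
    rw [map_mul, map_inv, hc, Mk.pow_fix (hd u) m]⟩
  rw [Datum.Rp.pr_eq (yw_rp D u), A.cardU m hm] at h5
  have : Finite ↥(D.T ⊓ Mk.fix ((F ^ d) ^ m)) :=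
    Finite.of_injective _ (Subgroup.inclusion_injective (inf_le_inf_right _ D.T_le_G))
  refine mul_right_cancel₀ (Nat.cast_ne_zero.2 (Nat.card_pos (α := ↥(D.T ⊓ Mk.fix ((F ^ d) ^ m)))).ne') ?_
  have h6 := congrArg (Int.cast (R := ℂ)) h5
  push_cast at h6 ⊢
  rw [Sq_mul H hd hm g hb h2, h6]
  ring

end

/-- **Shintani descent** -/
theorem boxSh : BoxSh := by
  intro p _ k _ _ Y _ N _ _ ρ F G _ D f _ hq
  obtain ⟨d, e, H, hd⟩ := exists_split D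
  have := fun u => @Fintype.ofFinite _ (finite_inf_GF D (cj (yw D u) D.T))
  exact ⟨e, _, Sq D d e, H.e_pos, spectral_Sq H hd, lefFun_Sq H hd f, fun m hm g => mod_Sq H hd hq hm g⟩

end Cfsg.Agent.LV.T.Sh
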