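import Cfsg.Agent.LV.T.Model
import Cfsg.Agent.LV.T.ShB
import Cfsg.Agent.LV.T.Level

/-!
# The level theorem (project LV; helper8)
-/

set_option autoImplicit false

namespace Cfsg.Agent.LV.T

/-- **The level theorem**: multiplicity functions of class functions with algebraic integer products are `Lv`. -/
theorem boxLv : BoxLv := boxLv_of_sh Sh.boxSh

end Cfsg.Agent.LV.T
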