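import Cfsg.Agent.LV.T.Level

/-!
# Level projections: convenient forms (project LV; helper8)

`rf cs K`: the reflections of `W_K`; `cas cs K`: the operator `y ↦ (u ↦ ∑ t, y (t * u))`; `Node`: `K` is a union of
components of `J` which is normalised by `w ψ`.  `Lv.level`, `Lv.poly`, `Lv.lev` are forms of (I3).
-/

set_option autoImplicit false
set_option linter.unusedSectionVars false
set_option linter.dupNamespace false

namespace Cfsg.Agent.LV.T

open CoxeterSystem Cfsg.Agent.Tits.Exchange Cfsg.Agent.Tits.Core Polynomial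

section gen

variable {I W : Type*} {M : CoxeterMatrix I} [Group W] {cs : CoxeterSystem M W} [Fintype W] {ψ : MulAut W}
  {J K : Set I} {w : W}

theorem min_iff : Min cs J w ↔ ∀ i ∈ J, cs.length w < cs.length (cs.simple i * w) := isMinL_iff cs

theorem min_one : Min cs J 1 := isMinL_one cs J

theorem Min.mono (h : Min cs J w) (hK : K ⊆ J) : Min cs K w := fun x hx => h x (WJ_mono cs hK hx)

open Classical in
variable (cs K) in
/-- the reflections of `W_K` -/
noncomputable def rf : Finset W := Finset.univ.filter fun t => cs.IsReflection t ∧ t ∈ WJ cs K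

theorem mem_rf {t : W} : t ∈ rf cs K ↔ cs.IsReflection t ∧ t ∈ WJ cs K := by simp [rf]

theorem mem_leftInvSeq_iff {ω : List I} (h : ∀ i ∈ ω, i ∈ K) (e : cs.wordProd ω = wJ cs K) {t : W} :
    t ∈ cs.leftInvSeq ω ↔ t ∈ rf cs K := by
  rw [mem_rf]
  refine ⟨fun ht => ⟨cs.isReflection_of_mem_leftInvSeq ω ht, Lvl.inv_mem h t ht⟩, fun ⟨h1, h2⟩ => ?_⟩
  have h3 := isLongest_wJ cs K
  have h4 : nn cs (cs.wordProd ω.reverse) t = 1 := by
    rw [nn_eq_one_iff cs h1, wordProd_reverse, e, h3.inv_eq]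
    have h5 := (h3.2 t h2).1
    have h6 := h1.odd_length.pos
    omega
  have h5 := mem_ris_of_nn cs h4
  rwa [rightInvSeq_reverse, List.mem_reverse] at h5

theorem sum_leftInvSeq {ω : List I} (hω : cs.IsReduced ω) (h : ∀ i ∈ ω, i ∈ K) (e : cs.wordProd ω = wJ cs K)
    {A : Type*} [AddCommMonoid A] (g : W → A) : ((cs.leftInvSeq ω).map g).sum = ∑ t ∈ rf cs K, g t := by
  classical
  rw [← List.sum_toFinset g hω.nodup_leftInvSeq]
  exact Finset.sum_congr (Finset.ext fun t => by rw [List.mem_toFinset, mem_leftInvSeq_iff h e]) fun _ _ => rfl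

theorem card_rf : (rf cs K).card = cs.length (wJ cs K) := by
  obtain ⟨ω, h1, h2, h3⟩ := exists_reduced_of_mem_WJ cs (isLongest_wJ cs K).1
  have := sum_leftInvSeq h2 h1 h3 fun _ => 1
  rw [← Finset.card_eq_sum_ones] at this
  rw [← this, ← h3, h2.eq]
  simp

variable (cs ψ J K w) in
/-- `K` is a union of components of `J`, normalised by `w ψ` -/
structure Node : Prop where
  sub : K ⊆ J
  comp : ∀ i ∈ J, i ∈ K ∨ ∀ j ∈ K, cs.simple i * cs.simple j = cs.simple j * cs.simple i
  nrm : ∀ i ∈ K, ∃ j ∈ K, w * ψ (cs.simple i) = cs.simple j * w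

theorem Node.self (h : ∀ i ∈ J, ∃ j ∈ J, w * ψ (cs.simple i) = cs.simple j * w) : Node cs ψ J J w :=
  ⟨le_rfl, fun _ hi => Or.inl hi, h⟩

theorem Node.top (hψ : Aut cs ψ) : Node cs ψ Set.univ Set.univ 1 :=
  Node.self fun i _ => (hψ i).imp fun j hj => ⟨trivial, by rw [hj, one_mul, mul_one]⟩

/-- an automorphism which maps the simple reflections of `K` to simple reflections of `K` fixes `w_K` -/
theorem map_wJ {θ : MulAut W} (h : ∀ i ∈ K, ∃ j ∈ K, θ (cs.simple i) = cs.simple j) : θ (wJ cs K) = wJ cs K := by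
  have h1 : ∀ x ∈ WJ cs K, θ x ∈ WJ cs K ∧ cs.length (θ x) ≤ cs.length x := fun x hx => by
    obtain ⟨ω, h2, h3, rfl⟩ := exists_reduced_of_mem_WJ cs hx
    rw [h3.eq]
    clear h3 hx
    induction ω with
    | nil => simp [one_mem]
    | cons i ω ih =>
      obtain ⟨j, hj, e⟩ := h i (h2 i (by simp))
      obtain ⟨h4, h5⟩ := ih fun j hj => h2 j (by simp [hj])
      rw [wordProd_cons, map_mul, e, List.length_cons]
      refine ⟨mul_mem (simple_mem_WJ cs hj) h4, (cs.length_mul_le _ _).trans ?_⟩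
      rw [cs.length_simple]; omega
  have h2 : ∀ n : ℕ, ∀ x ∈ WJ cs K, (θ ^ n) x ∈ WJ cs K ∧ cs.length ((θ ^ n) x) ≤ cs.length x := fun n => by
    induction n with
    | zero => exact fun x hx => ⟨hx, le_rfl⟩
    | succ n ih =>
      intro x hx
      rw [pow_succ, MulAut.mul_apply]
      exact ⟨(ih _ (h1 x hx).1).1, (ih _ (h1 x hx).1).2.trans (h1 x hx).2⟩
  have h3 := isLongest_wJ cs K
  refine h3.eq_of_length (h1 _ h3.1).1 ?_
  have h4 := (h2 (orderOf θ - 1) _ (h1 _ h3.1).1).2
  rwa [← MulAut.mul_apply, ← pow_succ, Nat.sub_add_cancel (orderOf_pos θ), pow_orderOf_eq_one, MulAut.one_apply] at h4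

theorem Node.cas (h : Node cs ψ J K w) {ω : List I} (hω : cs.IsReduced ω) (h1 : ∀ i ∈ ω, i ∈ K)
    (e : cs.wordProd ω = wJ cs K) : Cas cs ψ J w ω := by
  have h3 := isLongest_wJ cs K
  refine ⟨hω, fun i hi => h.sub (h1 i hi), by rw [e, h3.mul_self], fun i hi => ?_, ?_⟩
  · rw [e]
    rcases h.comp i hi with hK | hK
    · have h4 := simple_mem_WJ cs hK
      have h5 : cs.length (wJ cs K * cs.simple i * wJ cs K) = 1 := by
        have h6 := (h3.2 _ (mul_mem h3.1 h4)).2
        have h7 := (h3.2 _ h4).1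
        rw [cs.length_simple] at h7
        omega
      obtain ⟨j, hj⟩ := cs.length_eq_one_iff.1 h5
      exact ⟨j, by rw [← hj, ← mul_assoc, ← mul_assoc, h3.mul_self, one_mul]⟩
    · refine ⟨i, ?_⟩
      have h4 : WJ cs K ≤ Subgroup.centralizer {cs.simple i} := by
        refine (Subgroup.closure_le _).2 ?_
        rintro _ ⟨j, hj, rfl⟩ _ rfl
        exact hK j hj
      exact h4 h3.1 _ rfl
  · have h4 := map_wJ (cs := cs) (K := K) (θ := MulAut.conj w * ψ) fun i hi => by
      obtain ⟨j, hj, e⟩ := h.nrm i hi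
      exact ⟨j, hj, by rw [MulAut.mul_apply, MulAut.conj_apply, e, mul_inv_cancel_right]⟩
    rw [MulAut.mul_apply, MulAut.conj_apply] at h4
    rw [e]
    exact (mul_inv_eq_iff_eq_mul.1 h4).symm

variable (cs K) in
/-- the sum of the left translations by the reflections of `W_K` -/
noncomputable def cas : Module.End ℂ (W → ℂ) where
  toFun y u := ∑ t ∈ rf cs K, y (t * u)
  map_add' y y' := by funext u; simp only [Pi.add_apply, Finset.sum_add_distrib]
  map_smul' c y := by funext u; simp only [Pi.smul_apply, smul_eq_mul, RingHom.id_apply, Finset.mul_sum]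

theorem cas_apply (y : W → ℂ) (u : W) : cas cs K y u = ∑ t ∈ rf cs K, y (t * u) := rfl

/-- polynomials in `cas` only see the values on the coset -/
theorem aeval_cas_zero (hK : K ⊆ J) {y : W → ℂ} (h : ∀ x ∈ WJ cs J, y (x * w) = 0) (P : ℂ[X]) :
    ∀ x ∈ WJ cs J, aeval (cas cs K) P y (x * w) = 0 := by
  induction P using Polynomial.induction_on with
  | C r => intro x hx; simp [Algebra.algebraMap_eq_smul_one, h x hx]
  | add P Q hP hQ => intro x hx; rw [map_add, LinearMap.add_apply, Pi.add_apply, hP x hx, hQ x hx, add_zero]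
  | monomial n r ih =>
    intro x hx
    have h1 : C r * X ^ (n + 1) = X * (C r * X ^ n) := by ring
    rw [h1, map_mul, aeval_X, Module.End.mul_apply, cas_apply]
    refine Finset.sum_eq_zero fun t ht => ?_
    rw [← mul_assoc]
    exact ih _ (mul_mem (WJ_mono cs hK (mem_rf.1 ht).2) hx)

variable (cs K) in
/-- the operator `cas` is diagonalisable -/
theorem exists_nodal : ∃ S : Finset ℂ, aeval (cas cs K) (Lagrange.nodal S id) = 0 := by
  classical
  let e : (W → ℂ) ≃ₗ[ℂ] EuclideanSpace ℂ W := (WithLp.linearEquiv 2 ℂ (W → ℂ)).symm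
  let A : EuclideanSpace ℂ W →ₗ[ℂ] EuclideanSpace ℂ W := e.toLinearMap ∘ₗ cas cs K ∘ₗ e.symm.toLinearMap
  have hA : A.IsSymmetric := fun a b => by
    have h1 : ∀ (a : EuclideanSpace ℂ W) u, A a u = ∑ t ∈ rf cs K, a (t * u) := fun a u => rfl
    simp only [PiLp.inner_apply, h1, sum_inner, inner_sum]
    rw [Finset.sum_comm, Finset.sum_comm (s := Finset.univ)]
    refine Finset.sum_congr rfl fun t ht => ?_
    refine Fintype.sum_equiv (Equiv.mulLeft t) _ _ fun u => ?_
    rw [Equiv.coe_mulLeft, ← mul_assoc, (mem_rf.1 ht).1.mul_self, one_mul]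
  refine ⟨Finset.univ.image fun i => ((hA.eigenvalues rfl i : ℝ) : ℂ), ?_⟩
  refine ((hA.eigenvectorBasis rfl).toBasis.map e.symm).ext fun i => ?_
  have h1 : cas cs K (e.symm (hA.eigenvectorBasis rfl i)) =
      ((hA.eigenvalues rfl i : ℝ) : ℂ) • e.symm (hA.eigenvectorBasis rfl i) := by
    have := congrArg e.symm (hA.apply_eigenvectorBasis rfl i)
    rw [map_smul] at this
    exact this
  rw [Module.Basis.map_apply, OrthonormalBasis.coe_toBasis,
    Module.End.aeval_apply_of_mem_apply_eq_smul h1, LinearMap.zero_apply]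
  have h2 := Lagrange.eval_nodal_at_node (s := Finset.univ.image fun i => ((hA.eigenvalues rfl i : ℝ) : ℂ)) (v := id)
    (Finset.mem_image_of_mem _ (Finset.mem_univ i))
  rw [id] at h2
  rw [h2, zero_smul]

variable (cs K) in
/-- a finite set which contains all levels -/
noncomputable def spc : Finset ℂ := (exists_nodal cs K).choose

theorem nodal_spc : aeval (cas cs K) (Lagrange.nodal (spc cs K) id) = 0 := (exists_nodal cs K).choose_spec

open Classical in
variable (cs K) in
/-- the polynomial of the projection to the level `c` -/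
noncomputable def lp (c : ℂ) : ℂ[X] := Lagrange.basis (insert c (spc cs K)) id c

theorem lp_self (c : ℂ) : (lp cs K c).eval c = 1 := by
  classical
  exact Lagrange.eval_basis_self (v := id) Function.injective_id.injOn (Finset.mem_insert_self _ _)

theorem lp_ne {c a : ℂ} (ha : a ∈ spc cs K) (h : a ≠ c) : (lp cs K c).eval a = 0 := by
  classical
  exact Lagrange.eval_basis_of_ne (v := id) h.symm (Finset.mem_insert_of_mem ha)

variable (cs K) in
/-- the projection to the level `c` -/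
noncomputable def lev (c : ℂ) : Module.End ℂ (W → ℂ) := aeval (cas cs K) (lp cs K c)

theorem aeval_eq_zero {Q : ℂ[X]} (h : ∀ a ∈ spc cs K, Q.eval a = 0) : aeval (cas cs K) Q = 0 := by
  obtain ⟨R, rfl⟩ : Lagrange.nodal (spc cs K) id ∣ Q := Finset.prod_dvd_of_coprime
    (fun a _ b _ hab => isCoprime_X_sub_C_of_isUnit_sub (sub_ne_zero.2 hab).isUnit)
    fun a ha => dvd_iff_isRoot.2 (h a ha)
  rw [map_mul, nodal_spc, zero_mul]

theorem cas_lev (c : ℂ) (y : W → ℂ) : cas cs K (lev cs K c y) = c • lev cs K c y := by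
  have h := aeval_eq_zero (cs := cs) (K := K) (Q := (X - C c) * lp cs K c) fun a ha => by
    by_cases e : a = c
    · simp [e]
    · rw [eval_mul, lp_ne ha e, mul_zero]
  rw [map_mul, map_sub, aeval_X, aeval_C, Algebra.algebraMap_eq_smul_one] at h
  exact sub_eq_zero.1 (LinearMap.congr_fun h y)

theorem sum_lev {S : Finset ℂ} (hS : spc cs K ⊆ S) (y : W → ℂ) : ∑ c ∈ S, lev cs K c y = y := by
  have h := aeval_eq_zero (cs := cs) (K := K) (Q := ∑ c ∈ S, lp cs K c - 1) fun a ha => by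
    rw [eval_sub, eval_finsetSum, Finset.sum_eq_single a (fun c _ e => lp_ne ha e.symm) fun h => absurd (hS ha) h,
      lp_self, eval_one, sub_self]
  rw [map_sub, map_sum, map_one, sub_eq_zero] at h
  have h1 := LinearMap.congr_fun h y
  rwa [LinearMap.sum_apply] at h1

/-- polynomials in `cas` on a function which is an eigenfunction on the coset -/
theorem aeval_cas_eig (hK : K ⊆ J) {y : W → ℂ} {c : ℂ}
    (h : ∀ x ∈ WJ cs J, ∑ t ∈ rf cs K, y (t * (x * w)) = c * y (x * w)) (P : ℂ[X]) :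
    ∀ x ∈ WJ cs J, aeval (cas cs K) P y (x * w) = P.eval c * y (x * w) := fun x hx => by
  obtain ⟨Q, hQ⟩ := X_sub_C_dvd_sub_C_eval (p := P) (a := c)
  have h1 := aeval_cas_zero (w := w) hK (y := (cas cs K - c • 1 : Module.End ℂ (W → ℂ)) y)
    (fun x hx => sub_eq_zero.2 (h x hx)) Q x hx
  conv_lhs => rw [eq_add_of_sub_eq hQ, mul_comm (X - C c), map_add, map_mul, map_sub, aeval_X, aeval_C, aeval_C,
    Algebra.algebraMap_eq_smul_one, Algebra.algebraMap_eq_smul_one, LinearMap.add_apply, Pi.add_apply,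
    Module.End.mul_apply, h1, zero_add]
  rfl

open Classical in
/-- the projection of an eigenfunction -/
theorem lev_eig (hK : K ⊆ J) {y : W → ℂ} {c : ℂ}
    (h : ∀ x ∈ WJ cs J, ∑ t ∈ rf cs K, y (t * (x * w)) = c * y (x * w)) (c₀ : ℂ) {x : W} (hx : x ∈ WJ cs J) :
    lev cs K c₀ y (x * w) = if c = c₀ then y (x * w) else 0 := by
  rw [lev, aeval_cas_eig hK h _ x hx]
  split_ifs with e
  · rw [e, lp_self, one_mul]
  · by_cases hc : c ∈ spc cs K
    · rw [lp_ne hc e, zero_mul]
    · have h1 := aeval_cas_eig hK h (Lagrange.nodal (spc cs K) id) x hx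
      rw [nodal_spc] at h1
      rw [(mul_eq_zero.1 h1.symm).resolve_left (Lagrange.eval_nodal_not_at_node fun a ha e => hc (e ▸ ha)), mul_zero]

/-- polynomials in `cas` commute with every substitution `g` with `g (t * u) = σ t * g u`, `σ` a permutation of the
reflections (right translations, twisted conjugations) -/
theorem aeval_cas_comp {g : W → W} (σ : W ≃ W) (h1 : ∀ t, t ∈ rf cs K ↔ σ t ∈ rf cs K)
    (h2 : ∀ t ∈ rf cs K, ∀ u, g (t * u) = σ t * g u) (P : ℂ[X]) (y : W → ℂ) (u : W) :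
    aeval (cas cs K) P (fun u => y (g u)) u = aeval (cas cs K) P y (g u) := by
  induction P using Polynomial.induction_on generalizing u with
  | C r => simp [Algebra.algebraMap_eq_smul_one]
  | add P Q hP hQ => rw [map_add, LinearMap.add_apply, LinearMap.add_apply, Pi.add_apply, Pi.add_apply, hP, hQ]
  | monomial n r ih =>
    have h3 : C r * X ^ (n + 1) = X * (C r * X ^ n) := by ring
    rw [h3, map_mul, aeval_X, Module.End.mul_apply, Module.End.mul_apply, cas_apply, cas_apply]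
    exact Finset.sum_equiv σ h1 fun t ht => by rw [ih, h2 t ht]

theorem conj_mem_rf {v : W} (hv : ∀ x, x ∈ WJ cs K ↔ v * x * v⁻¹ ∈ WJ cs K) (t : W) :
    t ∈ rf cs K ↔ v * t * v⁻¹ ∈ rf cs K := by
  rw [mem_rf, mem_rf, ← hv, isReflection_conj_iff]

/-- invariance under `u ↦ v * u * v'` is kept -/
theorem aeval_cas_conj {v : W} (hv : ∀ x, x ∈ WJ cs K ↔ v * x * v⁻¹ ∈ WJ cs K) (v' : W) {y : W → ℂ}
    (hy : ∀ u, y (v * u * v') = y u) (P : ℂ[X]) (u : W) :
    aeval (cas cs K) P y (v * u * v') = aeval (cas cs K) P y u := by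
  rw [← aeval_cas_comp (g := fun u => v * u * v') (MulAut.conj v).toEquiv (conj_mem_rf hv) (fun t _ u => by simp [mul_assoc])]
  simp only [hy]

/-- the shortest element of a coset which is normalised by `ψ` -/
theorem exists_node (hψ : Aut cs ψ) (hn : ∀ i ∈ J, w * ψ (cs.simple i) * w⁻¹ ∈ WJ cs J) :
    ∃ u ∈ WJ cs J, Min cs J (u * w) ∧ Node cs ψ J J (u * w) := by
  obtain ⟨u, hu, v, rfl, hv⟩ := exists_isMinL cs J w
  refine ⟨u⁻¹, inv_mem hu, ?_⟩
  rw [inv_mul_cancel_left]
  refine ⟨hv, Node.self fun i hi => ?_⟩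
  have h1 : v * ψ (cs.simple i) * v⁻¹ ∈ WJ cs J := by
    have := mul_mem (mul_mem (inv_mem hu) (hn i hi)) hu
    simpa [mul_assoc] using this
  have h2 := hv _ h1
  have h3 := cs.length_mul_le v (ψ (cs.simple i))
  have h4 := hψ.length (cs.simple i)
  rw [inv_mul_cancel_right] at h2
  rw [cs.length_simple] at h4
  obtain ⟨ω, h5, h6, h7⟩ := exists_reduced_of_mem_WJ cs h1
  have h8 := h6.eq
  rw [h7] at h8
  match ω, h5, h7, h8 with
  | [], _, h7, _ =>
    rw [wordProd_nil, eq_mul_inv_iff_mul_eq, one_mul, left_eq_mul] at h7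
    rw [h7, cs.length_one] at h4
    exact absurd h4 zero_ne_one
  | [j], h5, h7, _ =>
    exact ⟨j, h5 j (by simp), by rw [← cs.wordProd_singleton j, h7, inv_mul_cancel_right]⟩
  | _ :: _ :: _, _, _, h8 =>
    simp only [List.length_cons] at h8
    omega

theorem eps_mul {ε : ℂ} (hε : ε * ε = 1) (u v : W) : ε ^ cs.length (u * v) = ε ^ cs.length u * ε ^ cs.length v := by
  rw [← pow_add, pow_eq_pow_mod _ (by rw [sq, hε] : ε ^ 2 = 1), cs.length_mul_mod_two,
    ← pow_eq_pow_mod _ (by rw [sq, hε] : ε ^ 2 = 1)]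

theorem eps_rf {ε : ℂ} (hε : ε * ε = 1) {t : W} (ht : t ∈ rf cs K) : ε ^ cs.length t = ε := by
  obtain ⟨k, hk⟩ := (mem_rf.1 ht).1.odd_length
  rw [hk, pow_succ, pow_mul, sq, hε, one_pow, one_mul]

/-- the extreme levels -/
theorem eq_of_extreme {ε : ℝ} (hε : ε * ε = 1) {f : W → ℂ} (h : cas cs K f = ((ε : ℂ) * (rf cs K).card) • f) {x : W}
    (hx : x ∈ WJ cs K) (u : W) : f (x * u) = (ε : ℂ) ^ cs.length x * f u := by
  have hε' : (ε : ℂ) * ε = 1 := by exact_mod_cast hε
  have h1 : ∑ t ∈ rf cs K, ∑ u, Complex.normSq (f (t * u) - ε * f u) = 0 := by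
    have h2 : ∀ t, ∑ u, Complex.normSq (f (t * u)) = ∑ u, Complex.normSq (f u) := fun t =>
      Fintype.sum_equiv (Equiv.mulLeft t) _ _ fun _ => rfl
    have h3 : ∀ u, ∑ t ∈ rf cs K, (f (t * u) * (starRingEnd ℂ) (ε * f u)).re = (rf cs K).card * Complex.normSq (f u) :=
      fun u => by
        rw [← Complex.re_sum, ← Finset.sum_mul, ← cas_apply, h, Pi.smul_apply, smul_eq_mul, map_mul, Complex.conj_ofReal,
          mul_mul_mul_comm, Complex.mul_conj, mul_right_comm (ε : ℂ), hε', one_mul, ← Complex.ofReal_natCast, ← Complex.ofReal_mul,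
          Complex.ofReal_re]
    simp only [Complex.normSq_sub, Finset.sum_sub_distrib, Finset.sum_add_distrib, h2, map_mul Complex.normSq,
      Complex.normSq_ofReal, hε, one_mul, ← Finset.mul_sum]
    rw [Finset.sum_comm (s := rf cs K) (f := fun t u => (f (t * u) * (starRingEnd ℂ) (ε * f u)).re)]
    simp only [h3, Finset.sum_const, nsmul_eq_mul, ← Finset.mul_sum]
    ring
  have h2 : ∀ t ∈ rf cs K, ∀ u, f (t * u) = ε * f u := fun t ht u =>
    sub_eq_zero.1 (Complex.normSq_eq_zero.1 ((Finset.sum_eq_zero_iff_of_nonneg fun _ _ => Complex.normSq_nonneg _).1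
      ((Finset.sum_eq_zero_iff_of_nonneg fun _ _ => Finset.sum_nonneg fun _ _ => Complex.normSq_nonneg _).1 h1 t ht)
      u (Finset.mem_univ u)))
  obtain ⟨ω, h3, rfl⟩ := exists_word_of_mem_WJ cs hx
  clear hx
  induction ω with
  | nil => simp
  | cons i ω ih =>
    rw [wordProd_cons, mul_assoc, h2 _ (mem_rf.2 ⟨cs.isReflection_simple i, simple_mem_WJ cs (h3 i (by simp))⟩),
      ih fun j hj => h3 j (by simp [hj]), eps_mul hε', cs.length_simple, pow_one, mul_assoc]

open Classical in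
theorem sum_aeval_cas {ε : ℂ} (hε : ε * ε = 1) (P : ℂ[X]) (y : W → ℂ) :
    ∑ x : WJ cs K, ε ^ cs.length (x : W) * aeval (cas cs K) P y (x * w) =
      P.eval (ε * (rf cs K).card) * ∑ x : WJ cs K, ε ^ cs.length (x : W) * y (x * w) := by
  induction P using Polynomial.induction_on with
  | C r => simp [Algebra.algebraMap_eq_smul_one, Finset.mul_sum, mul_left_comm]
  | add P Q hP hQ =>
    simp only [map_add, LinearMap.add_apply, Pi.add_apply, mul_add, Finset.sum_add_distrib, hP, hQ, eval_add, add_mul]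
  | monomial n r ih =>
    have h3 : C r * X ^ (n + 1) = X * (C r * X ^ n) := by ring
    rw [h3, map_mul, aeval_X, eval_mul (p := X), eval_X, mul_assoc _ (eval _ _), ← ih]
    simp only [Module.End.mul_apply, cas_apply, Finset.mul_sum (s := rf cs K)]
    rw [Finset.sum_comm, mul_comm ε, mul_assoc, ← nsmul_eq_mul, ← Finset.sum_const]
    refine Finset.sum_congr rfl fun t ht => ?_
    rw [Finset.mul_sum]
    refine Fintype.sum_equiv (Equiv.mulLeft (⟨t, (mem_rf.1 ht).2⟩ : WJ cs K)) _ _ fun x => ?_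
    rw [Equiv.coe_mulLeft, Subgroup.coe_mul, eps_mul hε, eps_rf hε ht, mul_assoc t, ← mul_assoc ε, ← mul_assoc ε, hε,
      one_mul]

end gen

variable {I W : Type} {M : CoxeterMatrix I} [Group W] {cs : CoxeterSystem M W} [Fintype W] {ψ : MulAut W}
  {J K : Set I} {w : W} {y : W → ℂ}

open Classical in
/-- (I3) with the sum over all reflections of `W_K` -/
theorem Lv.level (hψ : Aut cs ψ) (hy : Lv cs ψ J w y) (hw : Min cs J w) (hK : Node cs ψ J K w) {ι : Type}
    (s : Finset ι) (c : ι → ℂ) (f : ι → W → ℂ) (hf : ∀ x ∈ WJ cs J, y (x * w) = ∑ i ∈ s, f i (x * w))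
    (hc : ∀ i ∈ s, ∀ x ∈ WJ cs J, ∑ t ∈ rf cs K, f i (t * (x * w)) = c i * f i (x * w)) (c₀ : ℂ) :
    Lv cs ψ J w fun u => ∑ i ∈ s.filter (fun i => c i = c₀), f i u := by
  obtain ⟨ω, h1, h2, h3⟩ := exists_reduced_of_mem_WJ cs (isLongest_wJ cs K).1
  exact boxLevel cs ψ hψ hy hw (hK.cas h2 h1 h3) s c f hf
    (fun i hi x hx => by rw [sum_leftInvSeq h2 h1 h3, hc i hi x hx]) c₀

/-- (I3), polynomial form: `P (cas) y` for a polynomial `P` with integral values on the levels of `y` -/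
theorem Lv.poly (hψ : Aut cs ψ) (hy : Lv cs ψ J w y) (hw : Min cs J w) (hK : Node cs ψ J K w) (S : Finset ℂ)
    (hS : ∀ x ∈ WJ cs J, aeval (cas cs K) (Lagrange.nodal S id) y (x * w) = 0) (P : ℂ[X])
    (hP : ∀ a ∈ S, ∃ n : ℤ, P.eval a = n) : Lv cs ψ J w (aeval (cas cs K) P y) := by
  classical
  have h0 : ∀ Q : ℂ[X], (∀ a ∈ S, Q.eval a = 0) → ∀ x ∈ WJ cs J, aeval (cas cs K) Q y (x * w) = 0 := fun Q hQ => by
    have h1 : Lagrange.nodal S id ∣ Q := Finset.prod_dvd_of_coprime
      (fun a _ b _ hab => isCoprime_X_sub_C_of_isUnit_sub (sub_ne_zero.2 hab).isUnit)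
      fun a ha => dvd_iff_isRoot.2 (hQ a ha)
    obtain ⟨R, rfl⟩ := h1
    rw [mul_comm, map_mul]
    exact aeval_cas_zero hK.sub hS R
  have hinj : Set.InjOn (id : ℂ → ℂ) S := Function.injective_id.injOn
  have h1 : ∀ (Q : ℂ[X]), ∀ x ∈ WJ cs J, aeval (cas cs K) Q y (x * w) =
      ∑ a ∈ S, Q.eval a * aeval (cas cs K) (Lagrange.basis S id a) y (x * w) := fun Q x hx => by
    have h2 := h0 (Q - Lagrange.interpolate S id fun a => Q.eval a) (fun a ha => by
      have := Lagrange.eval_interpolate_at_node (fun a => Q.eval a) hinj ha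
      rw [id] at this
      rw [eval_sub, this, sub_self]) x hx
    rw [map_sub, LinearMap.sub_apply, Pi.sub_apply, sub_eq_zero] at h2
    rw [h2, Lagrange.interpolate_apply, map_sum, LinearMap.sum_apply, Finset.sum_apply]
    refine Finset.sum_congr rfl fun a _ => ?_
    rw [map_mul, aeval_C, Algebra.algebraMap_eq_smul_one, smul_mul_assoc, one_mul]
    rfl
  have h2 : ∀ a ∈ S, Lv cs ψ J w (aeval (cas cs K) (Lagrange.basis S id a) y) := fun a ha => by
    have h3 := hy.level hψ hw hK S id (fun a => aeval (cas cs K) (Lagrange.basis S id a) y)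
      (fun x hx => by simpa using h1 1 x hx) (fun b hb x hx => by
        have h4 := h0 ((X - C b) * Lagrange.basis S id b) (fun c hc => by
          by_cases e : b = c
          · simp [e]
          · have := Lagrange.eval_basis_of_ne (v := id) e hc
            rw [id] at this
            rw [eval_mul, this, mul_zero]) x hx
        rw [map_mul, map_sub, aeval_X, aeval_C, Algebra.algebraMap_eq_smul_one, Module.End.mul_apply,
          LinearMap.sub_apply, Pi.sub_apply, sub_eq_zero] at h4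
        exact h4) a
    refine h3.congr fun x _ => ?_
    simp only [id]
    rw [Finset.filter_eq' S a, if_pos ha, Finset.sum_singleton]
  choose! n hn using hP
  refine (Lv.sum S fun a ha => (h2 a ha).zsmul (n a)).congr fun x hx => ?_
  rw [h1 P x hx, Finset.sum_apply]
  exact Finset.sum_congr rfl fun a ha => by rw [hn a ha]

/-- (I3), projector form -/
theorem Lv.lev (hψ : Aut cs ψ) (hy : Lv cs ψ J w y) (hw : Min cs J w) (hK : Node cs ψ J K w) (c : ℂ) :
    Lv cs ψ J w (lev cs K c y) :=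
  hy.poly hψ hw hK (spc cs K) (fun x _ => by rw [nodal_spc]; rfl) _ fun a ha => by
    by_cases e : a = c
    · exact ⟨1, by rw [e, lp_self, Int.cast_one]⟩
    · exact ⟨0, by rw [lp_ne ha e, Int.cast_zero]⟩

open Classical in
theorem Lv.eps (hψ : Aut cs ψ) (hy : Lv cs ψ J w y) (hn : ∀ i ∈ J, w * ψ (cs.simple i) * w⁻¹ ∈ WJ cs J) {ε : ℤ}
    (hε : ε * ε = 1) : ∃ n : ℤ, ∑ x : WJ cs J, (ε : ℂ) ^ cs.length (x : W) * y (x * w) = n * Nat.card (WJ cs J) := by
  obtain ⟨u, hu, h1, h2⟩ := exists_node hψ hn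
  have hε' : (ε : ℂ) * ε = 1 := by exact_mod_cast hε
  obtain ⟨n, hn⟩ := ((hy.mono le_rfl hu).lev hψ h1 h2 ((ε : ℂ) * (rf cs J).card)).int (one_mem _)
  have h3 := sum_aeval_cas (cs := cs) (K := J) (w := u * w) hε' (lp cs J ((ε : ℂ) * (rf cs J).card)) y
  rw [lp_self, one_mul] at h3
  have h4 : ∀ x : WJ cs J, (ε : ℂ) ^ cs.length (x : W) *
      aeval (cas cs J) (lp cs J ((ε : ℂ) * (rf cs J).card)) y (x * (u * w)) = n := fun x => by
    have h5 := eq_of_extreme (ε := (ε : ℝ)) (by exact_mod_cast hε)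
      (cas_lev (cs := cs) (K := J) (((ε : ℝ) : ℂ) * (rf cs J).card) y) x.2 (u * w)
    rw [Complex.ofReal_intCast] at h5
    rw [one_mul] at hn
    rw [← LV.T.lev, h5, hn, ← mul_assoc, ← mul_pow, hε', one_pow, one_mul]
  simp only [h4, Finset.sum_const, Finset.card_univ, nsmul_eq_mul] at h3
  refine ⟨ε ^ cs.length u * n, ?_⟩
  rw [Nat.card_eq_fintype_card, Int.cast_mul, Int.cast_pow, mul_assoc, mul_comm (n : ℂ), h3, Finset.mul_sum]
  refine (Fintype.sum_equiv (Equiv.mulRight (⟨u, hu⟩ : WJ cs J)) _ _ fun x => ?_).symm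
  rw [Equiv.coe_mulRight, Subgroup.coe_mul, eps_mul hε', mul_assoc (x : W), ← mul_assoc, mul_comm (_ ^ cs.length u)]

open Classical in
/-- the average over a coset is an integer -/
theorem Lv.avg (hψ : Aut cs ψ) (hy : Lv cs ψ J w y) (hn : ∀ i ∈ J, w * ψ (cs.simple i) * w⁻¹ ∈ WJ cs J) :
    ∃ n : ℤ, ∑ x : WJ cs J, y (x * w) = n * Nat.card (WJ cs J) := by
  simpa using hy.eps hψ hn (ε := 1) rfl

open Classical in
/-- the signed average over a coset is an integer -/
theorem Lv.sgn (hψ : Aut cs ψ) (hy : Lv cs ψ J w y) (hn : ∀ i ∈ J, w * ψ (cs.simple i) * w⁻¹ ∈ WJ cs J) :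
    ∃ n : ℤ, ∑ x : WJ cs J, (-1 : ℂ) ^ cs.length (x : W) * y (x * w) = n * Nat.card (WJ cs J) := by
  simpa using hy.eps hψ hn (ε := -1) rfl

end Cfsg.Agent.LV.T
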