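import Cfsg.Agent.LV.T.Hk

/-!
# The level predicate (project LV; helper8)

`Lv cs ψ J w y`: the function `y` on the coset `W_J w` pairs integrally with all elements `e(1) * u`, `u ∈ W_J w`, where
`e = A / D` is an idempotent of the generic Hecke algebra of `W_J` which commutes with `T_u ψ`.

* `Lv.int`, `Lv.mono`, `Lv.congr`, `Lv.add`, `Lv.zsmul`, `Lv.sum` are proved here;
* `BoxLevel` (level projections) is proved in `LV/T/Level.lean`, `BoxModel` in `LV/T/Model.lean`.
-/

set_option autoImplicit false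
set_option linter.unusedSectionVars false
set_option linter.dupNamespace false

namespace Cfsg.Agent.LV.T

open CoxeterSystem Cfsg.Agent.Tits.Exchange Cfsg.Agent.Tits.Core Polynomial

variable {I W : Type*} {M : CoxeterMatrix I} [Group W] (cs : CoxeterSystem M W) [Fintype W] (ψ : MulAut W)

/-- `ψ` maps simple reflections to simple reflections -/
def Aut : Prop := ∀ i, ∃ j, ψ (cs.simple i) = cs.simple j

/-- `w` is the shortest element of the coset `W_J w` -/
def Min (J : Set I) (w : W) : Prop := ∀ x ∈ WJ cs J, cs.length (x * w) = cs.length x + cs.length w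

variable {cs} in
/-- the twist of an element of the Hecke algebra -/
noncomputable def tw {R : Type*} [CommRing R] {q : R} (a : Hk cs q) : Hk cs q := ∑ w, co a w • T cs q (ψ w)

/-- `A / D` is an idempotent of the Hecke algebra of `W_J` which commutes with `T_u ψ` -/
structure Idem (J : Set I) (u : W) (A : Hk cs (X : ℤ[X])) (D : ℤ[X]) : Prop where
  supp : ∀ w, w ∉ WJ cs J → co A w = 0
  idem : A * A = D • A
  comm : A * T cs X u = T cs X u * tw ψ A
  low : IsUnit D.trailingCoeff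
  one : D.eval 1 ≠ 0

/-- The level predicate. -/
def Lv (J : Set I) (w : W) (y : W → ℂ) : Prop :=
  ∀ x ∈ WJ cs J, ∀ A D, Idem cs ψ J (x * w) A D →
    ∃ n : ℤ, ∑ u, (((co A u).eval 1 : ℤ) : ℂ) * y (u * (x * w)) = n * ((D.eval 1 : ℤ) : ℂ)

variable {cs ψ}

theorem tw_T {R : Type*} [CommRing R] (q : R) (w : W) : tw ψ (T cs q w) = T cs q (ψ w) := by
  rw [tw, co_T]
  exact sum_ev_smul (RingHom.id R) (fun w => T cs q (ψ w)) w

theorem idem_one (J : Set I) (u : W) : Idem cs ψ J u 1 1 where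
  supp w hw := ev_ne fun h => hw (h ▸ one_mem _)
  idem := by rw [one_mul, one_smul]
  comm := by rw [← T_one, tw_T, map_one, T_one, one_mul, mul_one]
  low := by rw [trailingCoeff, natTrailingDegree_one, coeff_one_zero]; exact isUnit_one
  one := by rw [eval_one]; exact one_ne_zero

namespace Lv

variable {J J' : Set I} {w : W} {y y' : W → ℂ}

/-- (I1) the values are integers -/
theorem int (h : Lv cs ψ J w y) {x : W} (hx : x ∈ WJ cs J) : ∃ n : ℤ, y (x * w) = n := by
  obtain ⟨n, hn⟩ := h x hx 1 1 (idem_one J _)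
  refine ⟨n, ?_⟩
  rw [Finset.sum_eq_single 1] at hn
  · simpa [co_one, ev_self] using hn
  · intro u _ hu
    rw [co_one, ev_ne hu]; simp
  · simp

/-- (I2) smaller cosets -/
theorem mono (h : Lv cs ψ J w y) (hJ : J' ⊆ J) {x : W} (hx : x ∈ WJ cs J) : Lv cs ψ J' (x * w) y := by
  intro x' hx' A D hA
  rw [← mul_assoc] at hA ⊢
  exact h _ (mul_mem (WJ_mono cs hJ hx') hx) A D
    ⟨fun u hu => hA.supp u fun h1 => hu (WJ_mono cs hJ h1), hA.idem, hA.comm, hA.low, hA.one⟩

theorem congr (h : Lv cs ψ J w y) (e : ∀ x ∈ WJ cs J, y (x * w) = y' (x * w)) : Lv cs ψ J w y' := by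
  intro x hx A D hA
  obtain ⟨n, hn⟩ := h x hx A D hA
  refine ⟨n, Eq.trans (Finset.sum_congr rfl fun u _ => ?_) hn⟩
  by_cases hu : u ∈ WJ cs J
  · rw [← mul_assoc, e _ (mul_mem hu hx)]
  · rw [hA.supp u hu]; simp

theorem zero : Lv cs ψ J w 0 := fun _ _ _ _ _ => ⟨0, by simp⟩

theorem add (h : Lv cs ψ J w y) (h' : Lv cs ψ J w y') : Lv cs ψ J w (y + y') := by
  intro x hx A D hA
  obtain ⟨n, hn⟩ := h x hx A D hA
  obtain ⟨n', hn'⟩ := h' x hx A D hA
  refine ⟨n + n', ?_⟩
  simp only [Pi.add_apply, mul_add, Finset.sum_add_distrib, hn, hn']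
  push_cast; ring

theorem zsmul (h : Lv cs ψ J w y) (k : ℤ) : Lv cs ψ J w (fun u => k * y u) := by
  intro x hx A D hA
  obtain ⟨n, hn⟩ := h x hx A D hA
  refine ⟨k * n, ?_⟩
  simp only [mul_left_comm _ (k : ℂ), ← Finset.mul_sum, hn]
  push_cast; ring

theorem neg (h : Lv cs ψ J w y) : Lv cs ψ J w (-y) := (h.zsmul (-1)).congr fun _ _ => by simp

theorem sub (h : Lv cs ψ J w y) (h' : Lv cs ψ J w y') : Lv cs ψ J w (y - y') :=
  (h.add h'.neg).congr fun _ _ => by simp [sub_eq_add_neg]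

theorem sum {ι : Type*} (s : Finset ι) {f : ι → W → ℂ} (h : ∀ i ∈ s, Lv cs ψ J w (f i)) :
    Lv cs ψ J w (∑ i ∈ s, f i) := by
  classical
  induction s using Finset.induction_on with
  | empty => simpa using zero
  | insert a s ha ih =>
    rw [Finset.sum_insert ha]
    exact (h a (by simp)).add (ih fun i hi => h i (by simp [hi]))

end Lv

/-- `v = π ω` is an involution of `W_J` which normalises the simple reflections of `J` and commutes with `w ψ` -/
structure Cas (cs : CoxeterSystem M W) (ψ : MulAut W) (J : Set I) (w : W) (ω : List I) : Prop where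
  red : cs.IsReduced ω
  mem : ∀ i ∈ ω, i ∈ J
  sq : cs.wordProd ω * cs.wordProd ω = 1
  norm : ∀ i ∈ J, ∃ j, cs.simple i * cs.wordProd ω = cs.wordProd ω * cs.simple j
  comm : cs.wordProd ω * w = w * ψ (cs.wordProd ω)

open Classical in
/-- (I3) level projections: `y = ∑ f i` on the coset, `f i` an eigenfunction for the sum of the inversions of `π ω`. -/
def BoxLevel : Prop :=
  ∀ {I W : Type} {M : CoxeterMatrix I} [Group W] (cs : CoxeterSystem M W) [Fintype W] (ψ : MulAut W), Aut cs ψ →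
    ∀ {J : Set I} {w : W} {y : W → ℂ}, Lv cs ψ J w y → Min cs J w → ∀ {ω : List I}, Cas cs ψ J w ω →
    ∀ {ι : Type} (s : Finset ι) (c : ι → ℂ) (f : ι → W → ℂ), (∀ x ∈ WJ cs J, y (x * w) = ∑ i ∈ s, f i (x * w)) →
    (∀ i ∈ s, ∀ x ∈ WJ cs J, ((cs.leftInvSeq ω).map fun t => f i (t * (x * w))).sum = c i * f i (x * w)) →
    ∀ c₀ : ℂ, Lv cs ψ J w fun u => ∑ i ∈ s.filter (fun i => c i = c₀), f i u

/-- the eigenvalues of `T_v ^ 2` -/
def BoxZ : Prop :=
  ∀ {I W : Type} {M : CoxeterMatrix I} [Group W] (cs : CoxeterSystem M W) [Fintype W] {ω : List I},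
    cs.IsReduced ω → (∀ i ∈ ω, Commute (Ts cs (X : ℤ[X]) i) (Tw cs X ω ^ 2)) →
    ∃ m n k : ℕ, 0 < m ∧
      ((List.range (n + 1)).map fun j => (Tw cs (X : ℤ[X]) ω ^ 2) ^ m - (X ^ j : ℤ[X]) • 1).prod ^ k = 0

end Cfsg.Agent.LV.T
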