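import Cfsg.Agent.H157.HK.A

/-!
# The generic Iwahori-Hecke algebra over a commutative ring (project LV; helper8)

`Hk cs q` is the algebra of the operators on `W → R` which commute with the right multiplications, `T cs q w` its
basis, `co a` the coordinates of `a`, `lift` the homomorphism given by a family `τ` with the relations `Rep`.
-/

set_option autoImplicit false
set_option linter.unusedSectionVars false
set_option linter.dupNamespace false

namespace Cfsg.Agent.LV.T

open CoxeterSystem Cfsg.Agent.Tits.Exchange
open Cfsg.Agent.H157.HK (lenL lenR eq_of_len reduced_tail wd wd_reduced wd_prod wd_one)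

variable {I W : Type*} {M : CoxeterMatrix I} [Group W] (cs : CoxeterSystem M W)

/-- The relations of the Hecke algebra. -/
structure Rep {R 𝒜 : Type*} [CommRing R] [Ring 𝒜] [Algebra R 𝒜] (q : R) (τ : W → 𝒜) : Prop where
  one : τ 1 = 1
  up : ∀ i w, cs.length w < cs.length (cs.simple i * w) → τ (cs.simple i) * τ w = τ (cs.simple i * w)
  sq : ∀ i, τ (cs.simple i) * τ (cs.simple i) = (q - 1) • τ (cs.simple i) + q • 1

section ops

variable {R : Type*} [CommRing R] (q : R)

/-- Left multiplication by `T_{s_i}`. -/
noncomputable def Lo (i : I) : Module.End R (W → R) where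
  toFun v x := if cs.length (cs.simple i * x) < cs.length x then v (cs.simple i * x) + (q - 1) * v x
    else q * v (cs.simple i * x)
  map_add' u v := by
    funext x
    simp only [Pi.add_apply]
    split_ifs <;> ring
  map_smul' c v := by
    funext x
    simp only [Pi.smul_apply, smul_eq_mul, RingHom.id_apply]
    split_ifs <;> ring

/-- Right multiplication by `T_{s_i}`. -/
noncomputable def Ro (i : I) : Module.End R (W → R) where
  toFun v x := if cs.length (x * cs.simple i) < cs.length x then v (x * cs.simple i) + (q - 1) * v x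
    else q * v (x * cs.simple i)
  map_add' u v := by
    funext x
    simp only [Pi.add_apply]
    split_ifs <;> ring
  map_smul' c v := by
    funext x
    simp only [Pi.smul_apply, smul_eq_mul, RingHom.id_apply]
    split_ifs <;> ring

theorem Lo_apply (i : I) (v : W → R) (x : W) :
    Lo cs q i v x = if cs.length (cs.simple i * x) < cs.length x then v (cs.simple i * x) + (q - 1) * v x
      else q * v (cs.simple i * x) := rfl

theorem Ro_apply (i : I) (v : W → R) (x : W) :
    Ro cs q i v x = if cs.length (x * cs.simple i) < cs.length x then v (x * cs.simple i) + (q - 1) * v x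
      else q * v (x * cs.simple i) := rfl

theorem Lo_sq (i : I) : Lo cs q i * Lo cs q i = (q - 1) • Lo cs q i + q • 1 := by
  apply LinearMap.ext
  intro v
  funext x
  simp only [Module.End.mul_apply, LinearMap.add_apply, LinearMap.smul_apply, Module.End.one_apply, Pi.add_apply,
    Pi.smul_apply, smul_eq_mul]
  rw [Lo_apply, Lo_apply cs q i v x, Lo_apply cs q i v (cs.simple i * x)]
  have h1 : cs.simple i * (cs.simple i * x) = x := by simp
  rw [h1]
  rcases lenL cs i x with h | h
  · rw [if_neg (by omega), if_pos (by omega), if_neg (by omega)]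
    ring
  · rw [if_pos (by omega), if_neg (by omega), if_pos (by omega)]
    ring

theorem Lo_Ro (i j : I) : Lo cs q i * Ro cs q j = Ro cs q j * Lo cs q i := by
  apply LinearMap.ext
  intro v
  funext x
  simp only [Module.End.mul_apply]
  rw [Lo_apply, Ro_apply cs q j v x, Ro_apply cs q j v (cs.simple i * x), Ro_apply, Lo_apply cs q i v x,
    Lo_apply cs q i v (x * cs.simple j), ← mul_assoc (cs.simple i) x (cs.simple j)]
  rcases lenL cs i x with h1 | h1 <;> rcases lenR cs j x with h2 | h2 <;>
    rcases lenR cs j (cs.simple i * x) with h3 | h3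
  · rw [if_neg (by omega), if_neg (by omega), if_neg (by omega), if_neg (by omega)]
  · have h4 := eq_of_len cs (i := i) (j := j) (x := x) (by omega) (by omega)
    rw [if_neg (by omega), if_pos (by omega), if_neg (by omega), if_pos (by omega), h4]
  · exfalso
    rcases lenL cs i (x * cs.simple j) with h4 | h4 <;> rw [← mul_assoc] at h4 <;> omega
  · rw [if_neg (by omega), if_pos (by omega), if_pos (by omega), if_neg (by omega), if_neg (by omega)]
    ring
  · rw [if_pos (by omega), if_neg (by omega), if_neg (by omega), if_neg (by omega), if_pos (by omega)]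
    ring
  · exfalso
    rcases lenL cs i (x * cs.simple j) with h4 | h4 <;> rw [← mul_assoc] at h4 <;> omega
  · have h4 := eq_of_len cs (i := i) (j := j) (x := x) (by omega) (by omega)
    rw [if_pos (by omega), if_neg (by omega), if_pos (by omega), if_pos (by omega), if_neg (by omega),
      if_pos (by omega), h4]
  · rw [if_pos (by omega), if_pos (by omega), if_pos (by omega), if_pos (by omega), if_pos (by omega),
      if_pos (by omega)]
    ring

variable (R) in
open Classical in
/-- The basis vector. -/
noncomputable def ev (w : W) : W → R := fun x => if x = w then 1 else 0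

omit [Group W] in
theorem ev_self (w : W) : ev R w w = 1 := if_pos rfl

omit [Group W] in
theorem ev_ne {w x : W} (h : x ≠ w) : ev R w x = 0 := if_neg h

omit [Group W] in
theorem sum_ev [Fintype W] (v : W → R) : ∑ w, v w • ev R w = v := by
  funext x
  rw [Finset.sum_apply, Finset.sum_eq_single x]
  · rw [Pi.smul_apply, ev_self, smul_eq_mul, mul_one]
  · intro w _ hw
    rw [Pi.smul_apply, ev_ne hw.symm, smul_zero]
  · simp

omit [Group W] in
theorem sum_ev_smul [Fintype W] {V : Type*} [AddCommMonoid V] {R' : Type*} [CommRing R'] [Module R' V] (f : R →+* R')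
    (F : W → V) (w : W) : ∑ x, f (ev R w x) • F x = F w := by
  rw [Finset.sum_eq_single w]
  · rw [ev_self, map_one, one_smul]
  · intro x _ hx
    rw [ev_ne hx, map_zero, zero_smul]
  · simp

theorem Lo_ev {i : I} {w : W} (h : cs.length w < cs.length (cs.simple i * w)) :
    Lo cs q i (ev R w) = ev R (cs.simple i * w) := by
  funext x
  rw [Lo_apply]
  by_cases hx : x = cs.simple i * w
  · subst hx
    have h1 : cs.simple i * (cs.simple i * w) = w := by simp
    have h2 : cs.simple i * w ≠ w := fun h3 => by rw [h3] at h; omega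
    rw [h1, if_pos h, ev_self, ev_self, ev_ne h2]
    ring
  · have h1 : cs.simple i * x ≠ w := by
      rintro rfl
      exact hx (by simp)
    rw [ev_ne h1, ev_ne hx]
    by_cases hxw : x = w
    · subst hxw
      rw [if_neg (by omega)]
      ring
    · rw [ev_ne hxw]
      split_ifs <;> ring

theorem Ro_ev {i : I} {w : W} (h : cs.length w < cs.length (w * cs.simple i)) :
    Ro cs q i (ev R w) = ev R (w * cs.simple i) := by
  funext x
  rw [Ro_apply]
  by_cases hx : x = w * cs.simple i
  · subst hx
    have h1 : w * cs.simple i * cs.simple i = w := by simp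
    have h2 : w * cs.simple i ≠ w := fun h3 => by rw [h3] at h; omega
    rw [h1, if_pos h, ev_self, ev_self, ev_ne h2]
    ring
  · have h1 : x * cs.simple i ≠ w := by
      rintro rfl
      exact hx (by simp)
    rw [ev_ne h1, ev_ne hx]
    by_cases hxw : x = w
    · subst hxw
      rw [if_neg (by omega)]
      ring
    · rw [ev_ne hxw]
      split_ifs <;> ring

theorem RR_ev {ω : List I} (h : cs.IsReduced ω) :
    (ω.map (Ro cs q)).prod (ev R 1) = ev R (cs.wordProd ω)⁻¹ := by
  induction ω with
  | nil => rw [List.map_nil, List.prod_nil, Module.End.one_apply, wordProd_nil, inv_one]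
  | cons i ω ih =>
    have h1 := reduced_tail cs h
    rw [List.map_cons, List.prod_cons, Module.End.mul_apply, ih h1, Ro_ev, wordProd_cons, mul_inv_rev, cs.inv_simple]
    have h2 : (cs.wordProd ω)⁻¹ * cs.simple i = (cs.wordProd (i :: ω))⁻¹ := by
      rw [wordProd_cons, mul_inv_rev, cs.inv_simple]
    rw [h2, cs.length_inv, cs.length_inv, h.eq, h1.eq, List.length_cons]
    omega

/-- The Hecke algebra. -/
noncomputable def Hk : Subalgebra R (Module.End R (W → R)) := Subalgebra.centralizer R (Set.range (Ro cs q))

theorem mem_Hk {a : Module.End R (W → R)} : a ∈ Hk cs q ↔ ∀ i, Ro cs q i * a = a * Ro cs q i := by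
  rw [Hk, Subalgebra.mem_centralizer_iff]
  exact ⟨fun h i => h _ ⟨i, rfl⟩, by rintro h _ ⟨i, rfl⟩; exact h i⟩

/-- The generators. -/
noncomputable def Ts (i : I) : Hk cs q := ⟨Lo cs q i, (mem_Hk cs q).2 fun j => (Lo_Ro cs q i j).symm⟩

/-- The element of a word. -/
noncomputable def Tw (ω : List I) : Hk cs q := (ω.map (Ts cs q)).prod

/-- The basis. -/
noncomputable def T (w : W) : Hk cs q := Tw cs q (wd cs w)

variable {cs q}

/-- The coordinates. -/
noncomputable def co (a : Hk cs q) : W → R := (a : Module.End R (W → R)) (ev R 1)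

theorem co_add (a b : Hk cs q) : co (a + b) = co a + co b := rfl

theorem co_sub (a b : Hk cs q) : co (a - b) = co a - co b := rfl

theorem co_smul (c : R) (a : Hk cs q) : co (c • a) = c • co a := rfl

theorem co_zero : co (0 : Hk cs q) = 0 := rfl

theorem co_one : co (1 : Hk cs q) = ev R 1 := rfl

theorem co_mul (a b : Hk cs q) : co (a * b) = (a : Module.End R (W → R)) (co b) := rfl

variable (cs q) in
/-- The coordinates as a linear map. -/
noncomputable def coL : Hk cs q →ₗ[R] (W → R) where
  toFun := co
  map_add' := co_add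
  map_smul' := co_smul

theorem co_sum {ι : Type*} (s : Finset ι) (a : ι → Hk cs q) : co (∑ i ∈ s, a i) = ∑ i ∈ s, co (a i) :=
  map_sum (coL cs q) a s

variable (cs q)

theorem Tw_nil : Tw cs q [] = 1 := rfl

theorem Tw_cons (i : I) (ω : List I) : Tw cs q (i :: ω) = Ts cs q i * Tw cs q ω := by
  rw [Tw, List.map_cons, List.prod_cons, Tw]

theorem Tw_append (ω ω' : List I) : Tw cs q (ω ++ ω') = Tw cs q ω * Tw cs q ω' := by
  rw [Tw, List.map_append, List.prod_append, Tw, Tw]

theorem Ts_sq (i : I) : Ts cs q i * Ts cs q i = (q - 1) • Ts cs q i + q • 1 := Subtype.ext (Lo_sq cs q i)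

theorem co_Tw {ω : List I} (h : cs.IsReduced ω) : co (Tw cs q ω) = ev R (cs.wordProd ω) := by
  induction ω with
  | nil => rw [Tw_nil, co_one, wordProd_nil]
  | cons i ω ih =>
    have h1 := reduced_tail cs h
    rw [Tw_cons, co_mul, ih h1, wordProd_cons]
    refine Lo_ev cs q ?_
    rw [← wordProd_cons, h.eq, h1.eq, List.length_cons]
    omega

theorem co_T (w : W) : co (T cs q w) = ev R w := by rw [T, co_Tw cs q (wd_reduced cs w), wd_prod]

variable {cs q} [Fintype W]

theorem co_inj {a b : Hk cs q} (h : co a = co b) : a = b := by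
  have h2 : ∀ (c : Hk cs q) (ω : List I) (v : W → R), (c : Module.End R (W → R)) ((ω.map (Ro cs q)).prod v) =
      (ω.map (Ro cs q)).prod ((c : Module.End R (W → R)) v) := by
    intro c ω v
    induction ω with
    | nil => rfl
    | cons i ω ih =>
      rw [List.map_cons, List.prod_cons, Module.End.mul_apply, Module.End.mul_apply, ← ih, ← Module.End.mul_apply,
        ← (mem_Hk cs q).1 c.2 i, Module.End.mul_apply]
  have h3 : ∀ x, (a : Module.End R (W → R)) (ev R x) = (b : Module.End R (W → R)) (ev R x) := by
    intro x
    obtain ⟨ω, hω, hx⟩ := cs.exists_isReduced x⁻¹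
    have h1 : (ω.map (Ro cs q)).prod (ev R 1) = ev R x := by rw [RR_ev cs q hω, ← hx, inv_inv]
    rw [← h1, h2, h2]
    exact congrArg _ h
  refine Subtype.ext (LinearMap.ext fun v => ?_)
  rw [← sum_ev v, map_sum, map_sum]
  exact Finset.sum_congr rfl fun x _ => by rw [map_smul, map_smul, h3]

variable (cs q)

/-- The element with given coordinates. -/
noncomputable def mk (v : W → R) : Hk cs q := ∑ w, v w • T cs q w

theorem co_mk (v : W → R) : co (mk cs q v) = v := by
  rw [mk, co_sum]
  conv_rhs => rw [← sum_ev v]
  exact Finset.sum_congr rfl fun w _ => by rw [co_smul, co_T]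

variable {cs q} in
theorem eq_sum (a : Hk cs q) : a = ∑ w, co a w • T cs q w := co_inj (co_mk cs q _).symm

theorem Tw_eq {ω : List I} (h : cs.IsReduced ω) : Tw cs q ω = T cs q (cs.wordProd ω) :=
  co_inj (by rw [co_Tw cs q h, co_T])

theorem T_one : T cs q 1 = 1 := by rw [T, wd_one, Tw_nil]

theorem T_simple (i : I) : T cs q (cs.simple i) = Ts cs q i := by
  have h : cs.IsReduced [i] := by
    show cs.length _ = _
    rw [wordProd_singleton, cs.length_simple, List.length_singleton]
  have h1 := Tw_eq cs q h
  rw [Tw_cons, Tw_nil, mul_one, wordProd_singleton] at h1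
  exact h1.symm

theorem rep_T : Rep cs q (T cs q) where
  one := T_one cs q
  up i w h := co_inj (by rw [T_simple, co_mul, co_T, co_T]; exact Lo_ev cs q h)
  sq i := by rw [T_simple, Ts_sq]

end ops

namespace Rep

variable {cs} {R 𝒜 : Type*} [CommRing R] [Ring 𝒜] [Algebra R 𝒜] {q : R} {τ : W → 𝒜} (h : Rep cs q τ)

include h

theorem word {ω : List I} (hω : cs.IsReduced ω) : (ω.map fun i => τ (cs.simple i)).prod = τ (cs.wordProd ω) := by
  induction ω with
  | nil => rw [List.map_nil, List.prod_nil, wordProd_nil, h.one]
  | cons i ω ih =>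
    have h1 := reduced_tail cs hω
    rw [List.map_cons, List.prod_cons, ih h1, wordProd_cons]
    refine h.up i _ ?_
    rw [← wordProd_cons, hω.eq, h1.eq, List.length_cons]
    omega

/-- products with additive lengths -/
theorem mul {u w : W} (hl : cs.length (u * w) = cs.length u + cs.length w) : τ u * τ w = τ (u * w) := by
  have h1 : cs.IsReduced (wd cs u ++ wd cs w) := by
    show cs.length _ = _
    rw [wordProd_append, wd_prod, wd_prod, hl, List.length_append, ← (wd_reduced cs u).eq, ← (wd_reduced cs w).eq,
      wd_prod, wd_prod]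
  have h2 := h.word h1
  rwa [List.map_append, List.prod_append, h.word (wd_reduced cs u), h.word (wd_reduced cs w), wordProd_append,
    wd_prod, wd_prod] at h2

theorem down {i : I} {w : W} (hl : cs.length (cs.simple i * w) < cs.length w) :
    τ (cs.simple i) * τ w = (q - 1) • τ w + q • τ (cs.simple i * w) := by
  have h1 : cs.simple i * (cs.simple i * w) = w := by simp
  have h2 := h.up i (cs.simple i * w) (by rwa [h1])
  rw [h1] at h2
  conv_lhs => rw [← h2, ← mul_assoc, h.sq, add_mul, smul_mul_assoc, smul_mul_assoc, one_mul, h2]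

theorem up' {i : I} {w : W} (hl : cs.length w < cs.length (w * cs.simple i)) :
    τ w * τ (cs.simple i) = τ (w * cs.simple i) := by
  refine h.mul ?_
  rw [cs.length_simple]
  rcases lenR cs i w with h1 | h1 <;> omega

theorem down' {i : I} {w : W} (hl : cs.length (w * cs.simple i) < cs.length w) :
    τ w * τ (cs.simple i) = (q - 1) • τ w + q • τ (w * cs.simple i) := by
  have h1 : w * cs.simple i * cs.simple i = w := by simp
  have h2 := h.up' (i := i) (w := w * cs.simple i) (by rwa [h1])
  rw [h1] at h2
  conv_lhs => rw [← h2, mul_assoc, h.sq, mul_add, mul_smul_comm, mul_smul_comm, mul_one, h2]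

/-- `s_i v = v s_j` lifts -/
theorem swap {i j : I} {v : W} (e : cs.simple i * v = v * cs.simple j) :
    τ (cs.simple i) * τ v = τ v * τ (cs.simple j) := by
  rcases lenL cs i v with h1 | h1
  · rw [h.up i v (by omega), h.up' (by rw [← e]; omega), e]
  · rw [h.down (by omega), h.down' (by rw [← e]; omega), e]

end Rep

section lift

variable {cs} [Fintype W] {R R' 𝒜 : Type*} [CommRing R] [CommRing R'] [Ring 𝒜] [Algebra R' 𝒜] {q : R}
  (f : R →+* R') (τ : W → 𝒜)

/-- The value of a vector. -/
noncomputable def val (v : W → R) : 𝒜 := ∑ w, f (v w) • τ w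

omit [Group W] in
theorem val_add (u v : W → R) : val f τ (u + v) = val f τ u + val f τ v := by
  simp only [val, Pi.add_apply, map_add, add_smul, Finset.sum_add_distrib]

omit [Group W] in
theorem val_smul (c : R) (v : W → R) : val f τ (c • v) = f c • val f τ v := by
  simp only [val, Pi.smul_apply, smul_eq_mul, map_mul, mul_smul, Finset.smul_sum]

omit [Group W] in
theorem val_ev (w : W) : val f τ (ev R w) = τ w := sum_ev_smul f τ w

omit [Group W] in
theorem val_sum {ι : Type*} (s : Finset ι) (v : ι → W → R) : val f τ (∑ i ∈ s, v i) = ∑ i ∈ s, val f τ (v i) := by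
  simp only [val, Finset.sum_apply, map_sum, Finset.sum_smul]
  exact Finset.sum_comm

variable {f τ} (h : Rep cs (f q) τ)

include h

theorem Rep.val_Ts (i : I) (b : Hk cs q) : val f τ (co (Ts cs q i * b)) = τ (cs.simple i) * val f τ (co b) := by
  conv_lhs => rw [eq_sum b, Finset.mul_sum, co_sum, val_sum]
  conv_rhs => rw [val, Finset.mul_sum]
  refine Finset.sum_congr rfl fun w _ => ?_
  rw [mul_smul_comm, co_smul, val_smul, mul_smul_comm, ← T_simple]
  congr 1
  rcases lenL cs i w with h1 | h1
  · rw [(rep_T cs q).up i w (by omega), co_T, val_ev, h.up i w (by omega)]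
  · rw [(rep_T cs q).down (by omega), co_add, co_smul, co_smul, co_T, co_T, val_add, val_smul, val_smul, val_ev, val_ev,
      h.down (by omega), map_sub, map_one]

theorem Rep.val_T (w : W) (b : Hk cs q) : val f τ (co (T cs q w * b)) = τ w * val f τ (co b) := by
  have h1 : ∀ ω : List I, val f τ (co (Tw cs q ω * b)) =
      (ω.map fun i => τ (cs.simple i)).prod * val f τ (co b) := by
    intro ω
    induction ω with
    | nil => rw [Tw_nil, one_mul, List.map_nil, List.prod_nil, one_mul]
    | cons i ω ih => rw [Tw_cons, mul_assoc, h.val_Ts, ih, List.map_cons, List.prod_cons, mul_assoc]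
  rw [T, h1, h.word (wd_reduced cs w), wd_prod]

/-- The homomorphism given by a family with the relations of the Hecke algebra. -/
noncomputable def Rep.lift : Hk cs q →+* 𝒜 where
  toFun a := val f τ (co a)
  map_one' := by rw [co_one, val_ev, h.one]
  map_mul' a b := by
    conv_lhs => rw [eq_sum a, Finset.sum_mul, co_sum, val_sum]
    conv_rhs => rw [val, Finset.sum_mul]
    refine Finset.sum_congr rfl fun w _ => ?_
    rw [smul_mul_assoc, co_smul, val_smul, h.val_T, smul_mul_assoc]
  map_zero' := by simp [co_zero, val]
  map_add' a b := by rw [co_add, val_add]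

theorem Rep.lift_apply (a : Hk cs q) : h.lift a = ∑ w, f (co a w) • τ w := rfl

theorem Rep.lift_T (w : W) : h.lift (T cs q w) = τ w := by
  show val f τ _ = _
  rw [co_T, val_ev]

theorem Rep.lift_smul (c : R) (a : Hk cs q) : h.lift (c • a) = f c • h.lift a := val_smul f τ c _

end lift

end Cfsg.Agent.LV.T
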