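import Cfsg.Agent.LV.T.Sp
import Cfsg.Agent.LV.T.Box
import Cfsg.Agent.LV.EP.Quot

/-!
# The level theorem for a model (project LV; helper8)
-/

set_option autoImplicit false
set_option linter.unusedSectionVars false
set_option linter.dupNamespace false

namespace Cfsg.Agent.LV.T

open Cfsg Cfsg.Agent.DL Cfsg.Agent.DL.Lef Cfsg.Agent.Characters Polynomial

namespace Md

theorem spectral_sum {H : Type} [Group H] [Fintype H] {ι : Type*} (s : Finset ι) {R : ι → ℕ → H → ℂ}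
    (h : ∀ i, Spectral H (R i)) : Spectral H fun m => ∑ i ∈ s, R i m :=
  ⟨fun m hm g x => by simp only [Finset.sum_apply, (h _).cls m hm g x],
    fun χ hχ => (ExpZ.sum s fun i _ => (h i).expZ χ hχ).congr fun _ _ => (Core.classInner_sum_left _ _ _).symm⟩

theorem expZ_aeval (P : ℤ[X]) {q : ℕ} (hq : q ≠ 0) : ExpZ fun m => aeval ((q : ℂ) ^ m) P := by
  have h : IsIntegral ℤ (q : ℂ) := by
    have := isIntegral_algebraMap (R := ℤ) (A := ℂ) (x := (q : ℤ))
    simpa using this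
  refine (ExpZ.sum (Finset.range (P.natDegree + 1)) fun i _ => expZ_geom (P.coeff i) (x := (q : ℂ) ^ i)
    (pow_ne_zero _ (Nat.cast_ne_zero.2 hq)) (h.pow i)).congr fun m _ => ?_
  rw [aeval_eq_sum_range]
  exact Finset.sum_congr rfl fun i _ => by rw [zsmul_eq_mul, ← pow_mul, ← pow_mul, mul_comm i m]

theorem inner_int {H : Type} [Group H] [Fintype H] {χ θ : H → ℂ} (h : IsGeneralizedCharacter H χ)
    (h' : IsGeneralizedCharacter H θ) : ∃ n : ℤ, classInner χ θ = n := by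
  obtain ⟨a, b, ha, hb, rfl⟩ := h
  obtain ⟨c, d, hc, hd, rfl⟩ := h'
  obtain ⟨n₁, h₁⟩ := Core.classInner_isNat ha hc
  obtain ⟨n₂, h₂⟩ := Core.classInner_isNat ha hd
  obtain ⟨n₃, h₃⟩ := Core.classInner_isNat hb hc
  obtain ⟨n₄, h₄⟩ := Core.classInner_isNat hb hd
  refine ⟨n₁ - n₂ - (n₃ - n₄), ?_⟩
  rw [Core.classInner_sub_left, Core.classInner_sub_right, Core.classInner_sub_right, h₁, h₂, h₃, h₄]
  push_cast; rfl

/-- integral matrices as complex operators -/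
noncomputable def cx (X : Type) [Fintype X] [DecidableEq X] : Matrix X X ℤ →+* Module.End ℂ (X → ℂ) :=
  (Matrix.toLinAlgEquiv' : Matrix X X ℂ ≃ₐ[ℂ] Module.End ℂ (X → ℂ)).toRingEquiv.toRingHom.comp
    (Int.castRingHom ℂ).mapMatrix

theorem trace_cx {X : Type} [Fintype X] [DecidableEq X] (A : Matrix X X ℤ) :
    LinearMap.trace ℂ (X → ℂ) (cx X A) = (A.trace : ℤ) := by
  show LinearMap.trace ℂ (X → ℂ) (Matrix.toLin' (A.map (Int.castRingHom ℂ))) = _
  rw [Matrix.trace_toLin'_eq]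
  simp [Matrix.trace]

/-- the integrality of the trace -/
theorem dvd_trace {X : Type} [Fintype X] [DecidableEq X] {S A : Matrix X X ℤ} {d : ℤ} (hd : d ≠ 0)
    (h1 : A * A = d • A) (h2 : S * A = A * S) : ∃ n : ℤ, (A * S).trace = d * n := by
  have hd' : (d : ℂ) ≠ 0 := Int.cast_ne_zero.2 hd
  have h3 : LinearMap.trace ℂ (X → ℂ) (cx X S * ((d : ℂ)⁻¹ • cx X A)) = (d : ℂ)⁻¹ * ((A * S).trace : ℤ) := by
    rw [mul_smul_comm, map_smul, ← map_mul, h2, trace_cx, smul_eq_mul]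
  obtain ⟨n, hn⟩ := EP.tr_int (a := cx X S) (e := (d : ℂ)⁻¹ • cx X A) ((Matrix.isIntegral S).map (cx X).toIntAlgHom)
    (by rw [smul_mul_assoc, mul_smul_comm, ← map_mul, h1, map_zsmul, ← Int.cast_smul_eq_zsmul ℂ, smul_smul (d : ℂ)⁻¹ d,
      inv_mul_cancel₀ hd', one_smul])
    (by rw [smul_mul_assoc, mul_smul_comm, ← map_mul, ← map_mul, h2])
    ⟨(d : ℚ)⁻¹ * ((A * S).trace : ℤ), by rw [h3]; push_cast; rfl⟩
  refine ⟨n, Int.cast_injective (α := ℂ) ?_⟩
  rw [Int.cast_mul, ← hn, h3, mul_inv_cancel_left₀ hd']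

variable {I W : Type*} {M : CoxeterMatrix I} [Group W] {cs : CoxeterSystem M W} [Fintype W] {ψ : MulAut W}

theorem mod_int {q : ℤ} {N : ℕ} {s : W → ℂ} (h : Mod cs ψ q N s) {J : Set I} {u : W} {A : Hk cs (X : ℤ[X])}
    {D : ℤ[X]} (hA : Idem cs ψ J u A D) (hd : D.eval q ≠ 0) :
    ∃ n : ℤ, ∑ w, (((co (A * T cs X u) w).eval q : ℤ) : ℂ) * s w = ((q ^ N * D.eval q : ℤ) : ℂ) * n := by
  obtain ⟨Z, _, _, τ, P, h1, h2, h3⟩ := h
  have h4 : Rep cs ((evalRingHom q) X) τ := by rwa [coe_evalRingHom, eval_X]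
  have h5 : ∀ a, P * h4.lift a = h4.lift (tw ψ a) * P := fun a => by
    rw [tw, map_sum, Rep.lift_apply, Finset.mul_sum, Finset.sum_mul]
    exact Finset.sum_congr rfl fun w _ => by rw [Rep.lift_smul, Rep.lift_T, mul_smul_comm, smul_mul_assoc, h2]
  obtain ⟨n, hn⟩ := dvd_trace (S := τ u * P) (A := h4.lift A) hd
    (by rw [← map_mul, hA.idem, Rep.lift_smul]; rfl)
    (by rw [mul_assoc, h5, ← mul_assoc, ← mul_assoc, ← h4.lift_T, ← map_mul, ← map_mul, hA.comm])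
  refine ⟨n, ?_⟩
  rw [← mul_assoc, ← h4.lift_T, ← map_mul, Rep.lift_apply, Finset.sum_mul, Matrix.trace_sum] at hn
  rw [← Int.cast_mul, mul_assoc, ← hn, Finset.mul_sum, Int.cast_sum]
  refine Finset.sum_congr rfl fun w _ => ?_
  rw [h3, smul_mul_assoc, Matrix.trace_smul, smul_eq_mul, coe_evalRingHom]
  push_cast; ring

theorem eval_ne {p : ℕ} (hp : p.Prime) {q : ℤ} (hq : (p : ℤ) ∣ q) (hq0 : q ≠ 0) {D : ℤ[X]}
    (hD : IsUnit D.trailingCoeff) : D.eval q ≠ 0 := by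
  obtain ⟨D', hD'⟩ : X ^ D.natTrailingDegree ∣ D :=
    X_pow_dvd_iff.2 fun d hd => coeff_eq_zero_of_lt_natTrailingDegree hd
  have h2 : D'.coeff 0 = D.trailingCoeff := by
    have := coeff_X_pow_mul D' D.natTrailingDegree 0
    rw [← hD', zero_add] at this
    exact this.symm
  rw [hD', eval_mul, eval_pow, eval_X]
  refine mul_ne_zero (pow_ne_zero _ hq0) fun h => ?_
  have h3 := sub_dvd_eval_sub q 0 D'
  rw [h, sub_zero, zero_sub, dvd_neg, ← coeff_zero_eq_eval_zero, h2] at h3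
  exact (Nat.prime_iff_prime_int.1 hp).not_isUnit (isUnit_of_dvd_unit (hq.trans h3) hD)

theorem sum_co_mul_T (A : Hk cs (X : ℤ[X])) (u : W) (y : W → ℂ) :
    ∑ w, (((co (A * T cs X u) w).eval 1 : ℤ) : ℂ) * y w = ∑ w, (((co A w).eval 1 : ℤ) : ℂ) * y (w * u) := by
  have h : ((Int.castRingHom ℂ).comp (evalRingHom 1)) X = 1 := by simp
  have h1 := pr_mul_T y (bc cs _ h A) u
  rw [← bc_T _ h, ← map_mul, pr_apply, pr_apply] at h1
  simp only [co_bc] at h1
  exact h1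

end Md

open Md in
/-- **(I0)** -/
theorem boxModel : BoxModel := by
  intro I W M _ cs _ ψ p _ H _ _ R ⟨e, N, S, he, hS, hR, hM⟩ χ hχ x _ A D hA
  have hp : p.Prime := Fact.out
  have hq0 : p ^ e ≠ 0 := pow_ne_zero _ hp.ne_zero
  set B := A * T cs X (x * 1) with hB
  have hd : ∀ m, 0 < m → D.eval (((p : ℤ) ^ e) ^ m) ≠ 0 := fun m hm =>
    eval_ne hp (dvd_pow (dvd_pow_self _ he.ne') hm.ne') (pow_ne_zero _ (pow_ne_zero _ (Int.natCast_ne_zero.2 hp.ne_zero)))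
      hA.low
  have hc : ∀ (m : ℕ) (P : ℤ[X]), aeval (((p ^ e : ℕ) : ℂ) ^ m) P = ((P.eval (((p : ℤ) ^ e) ^ m) : ℤ) : ℂ) := fun m P => by
    rw [EP.aeval_nat]; push_cast; rfl
  have h1 : ∀ m g, ∃ n : ℤ, 0 < m → (∑ w, aeval (((p ^ e : ℕ) : ℂ) ^ m) (co B w) • S w m) g =
      aeval (((p ^ e : ℕ) : ℂ) ^ m) (X ^ N * D : ℤ[X]) * n := fun m g => by
    by_cases hm : 0 < m
    · obtain ⟨n, hn⟩ := mod_int (hM m hm g) hA (hd m hm)
      refine ⟨n, fun _ => ?_⟩
      simp only [hc, Finset.sum_apply, Pi.smul_apply, smul_eq_mul]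
      rw [hn, eval_mul, eval_pow, eval_X]
    · exact ⟨0, fun h => absurd h hm⟩
  choose a ha using h1
  have h2 := EP.gen_of_int (A := fun m g => (a m g : ℂ)) (spectral_sum Finset.univ fun w => (hS w).smul (expZ_aeval (co B w) hq0))
    (D := X ^ N * D) (by
      rw [trailingCoeff_mul]
      refine IsUnit.mul ?_ hA.low
      rw [trailingCoeff, natTrailingDegree_X_pow, coeff_X_pow_self]
      exact isUnit_one)
    (by rw [eval_mul, eval_pow, eval_X, one_pow, one_mul]; exact hA.one) hp (dvd_pow_self _ he.ne')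
    (fun m hm g => ha m g hm) (fun m _ g => ⟨_, rfl⟩) hq0
  have h3 : lefFun (fun m => ∑ w, aeval (((p ^ e : ℕ) : ℂ) ^ m) (co B w) • S w m) =
      ∑ w, (((co B w).eval 1 : ℤ) : ℂ) • R w := by
    funext g
    simp only [lefFun_apply, Finset.sum_apply, Pi.smul_apply, smul_eq_mul]
    rw [lef_sum _ fun w _ => (expZ_aeval (co B w) hq0).expC.mul ((hS w).expC g)]
    refine Finset.sum_congr rfl fun w _ => ?_
    rw [lef_mul (expZ_aeval (co B w) hq0).expC ((hS w).expC g), EP.lef_aeval _ (Nat.cast_ne_zero.2 hq0), ← hR w,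
      lefFun_apply]
  obtain ⟨n, hn⟩ := inner_int hχ h2
  refine ⟨n, ?_⟩
  rw [h3, Core.classInner_smul_right, Core.classInner_sum_right, eval_mul, eval_pow, eval_X, one_pow, one_mul,
    map_inv₀, map_intCast, inv_mul_eq_iff_eq_mul₀ (Int.cast_ne_zero.2 hA.one)] at hn
  rw [← sum_co_mul_T A (x * 1) fun u => classInner χ (R u), mul_comm, ← hn]
  exact Finset.sum_congr rfl fun w _ => by rw [Core.classInner_smul_right, map_intCast]

theorem boxLv_of_sh (h : BoxSh) : BoxLv := boxLv_of boxModel h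

end Cfsg.Agent.LV.T
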