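import Cfsg.Agent.DL.Mk.SBN

/-!
# LV, Shintani trace formula, part A: the Hecke matrices of a finite split `(B,N)`-pair (helper4)

`Tm S w` is the matrix of the relative position `w` on `G / B`, `Pm e` a permutation matrix; `hecke` collects the
relations and the trace formula.
-/

set_option autoImplicit false
set_option maxHeartbeats 400000
set_option linter.unusedSectionVars false

namespace Cfsg.Agent.LV.T.Sh

open CoxeterSystem Cfsg.Agent.DL.Mk

variable {I W Y : Type} [Group W] [Group Y] {M : CoxeterMatrix I}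

theorem sum_ite_card (G : Subgroup Y) [Fintype G] (P : Y → Prop) [DecidablePred P] :
    ∑ z : G, (if P z then 1 else 0 : ℤ) = Nat.card {z : Y // z ∈ G ∧ P z} := by
  rw [Finset.sum_boole, ← Fintype.card_subtype, ← Nat.card_eq_fintype_card]
  exact congrArg _ (Nat.card_congr (Equiv.subtypeSubtypeEquivSubtypeInter (· ∈ G) P))

theorem sum_quot {G : Type} [Group G] [Fintype G] (H : Subgroup G) [Fintype (G ⧸ H)] (f : G ⧸ H → ℤ) :
    ∑ x : G, f x = Nat.card H * ∑ x, f x := by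
  classical
  have := Fintype.ofFinite H
  have h1 : ∀ (q : G ⧸ H) (b : H), ((q.out * b : G) : G ⧸ H) = q := fun q b => by
    rw [QuotientGroup.mk_mul_of_mem _ b.2, QuotientGroup.out_eq']
  have h : Function.Bijective fun z : (G ⧸ H) × H => z.1.out * z.2 := by
    constructor
    · rintro ⟨q, b⟩ ⟨q', b'⟩ e
      have h2 : q = q' := by rw [← h1 q b, ← h1 q' b']; exact congrArg _ e
      subst h2
      rw [Subtype.ext (mul_left_cancel e : (b : G) = b')]
    · intro g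
      obtain ⟨b, hb⟩ := QuotientGroup.mk_out_eq_mul H g
      exact ⟨((g : G ⧸ H), b⁻¹), by simp [hb]⟩
  rw [← h.sum_comp fun x : G => f x, Fintype.sum_prod_type]
  simp only [h1, Finset.sum_const, Finset.card_univ, nsmul_eq_mul, Nat.card_eq_fintype_card, Finset.mul_sum]

/-- the double coset `B w B` -/
def cell (U N : Subgroup Y) (π : Y → W) (w : W) : Set Y := {g | ∃ a ∈ N, π a = w ∧ g ∈ dc U a}

open Classical in
/-- the indicator function of a cell -/
noncomputable def ic (U N : Subgroup Y) (π : Y → W) (w : W) (g : Y) : ℤ := if g ∈ cell U N π w then 1 else 0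

theorem ic_congr {U N : Subgroup Y} {π : Y → W} {w w' : W} {g g' : Y} (h : g ∈ cell U N π w ↔ g' ∈ cell U N π w') :
    ic U N π w g = ic U N π w' g' := by
  rw [ic, ic, propext h]

open Classical in
/-- a permutation matrix -/
noncomputable def Pm {Z : Type} (e : Z → Z) : Matrix Z Z ℤ := fun x y => if x = e y then 1 else 0

variable {cs : CoxeterSystem M W} {G U T N : Subgroup Y} {π : Y → W} {n : I → Y} {X : I → Subgroup Y}
  (S : SBN cs G U T N π n X)

/-- the Borel subgroup -/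
def Bo : Subgroup Y where
  carrier := {g | ∃ t ∈ T, g * t⁻¹ ∈ U}
  one_mem' := ⟨1, one_mem _, by simp⟩
  mul_mem' := by
    rintro a b ⟨s, hs, h1⟩ ⟨t, ht, h2⟩
    exact ⟨s * t, mul_mem hs ht, by convert mul_mem h1 (S.T_norm s hs _ h2) using 1; group⟩
  inv_mem' := by
    rintro a ⟨s, hs, h1⟩
    exact ⟨s⁻¹, inv_mem hs, by convert S.T_norm' hs (inv_mem h1) using 1; group⟩

/-- the flags -/
abbrev Fl : Type := G ⧸ (Bo S).subgroupOf G

/-- the Hecke matrices -/
noncomputable def Tm (w : W) : Matrix (Fl S) (Fl S) ℤ := fun x y => ic U N π w ((x.out : Y)⁻¹ * y.out)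

include S

theorem U_le : U ≤ Bo S := fun _ hu => ⟨1, one_mem _, by simpa using hu⟩

theorem T_le : T ≤ Bo S := fun t ht => ⟨t, ht, by simp⟩

theorem Bo_le : Bo S ≤ G := by
  rintro g ⟨t, ht, h⟩
  simpa using mul_mem (S.U_le h) (S.N_le (S.T_le ht))

theorem cell_one {g : Y} : g ∈ cell U N π 1 ↔ g ∈ Bo S :=
  ⟨fun ⟨a, ha, h1, h2⟩ => ⟨a, (S.π_eq_one a ha).1 h1, (S.mem_dc_T ((S.π_eq_one a ha).1 h1)).1 h2⟩,
    fun ⟨t, ht, h⟩ => ⟨t, S.T_le ht, S.π_T ht, (S.mem_dc_T ht).2 h⟩⟩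

theorem cell_uniq {g : Y} {w w' : W} (h : g ∈ cell U N π w) (h' : g ∈ cell U N π w') : w = w' := by
  obtain ⟨a, ha, rfl, h1⟩ := h
  obtain ⟨b, hb, rfl, h2⟩ := h'
  rw [S.dc_uniq ha hb h1 h2]

theorem cell_inv {g : Y} {w : W} (h : g ∈ cell U N π w) : g⁻¹ ∈ cell U N π w⁻¹ :=
  let ⟨a, ha, h1, h2⟩ := h
  ⟨a⁻¹, inv_mem ha, by rw [S.π_inv ha, h1], dc_inv h2⟩

theorem ic_inv (w : W) (g : Y) : ic U N π w⁻¹ g⁻¹ = ic U N π w g :=
  ic_congr ⟨fun h => by simpa using cell_inv S h, cell_inv S⟩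

theorem cell_left {b g : Y} {w : W} (hb : b ∈ Bo S) (h : g ∈ cell U N π w) : b * g ∈ cell U N π w := by
  obtain ⟨t, ht, h0⟩ := hb
  obtain ⟨a, ha, h1, h2⟩ := h
  refine ⟨t * a, mul_mem (S.T_le ht) ha, (S.π_T_mul ht ha).trans h1, ?_⟩
  convert dc_mul_left (S.T_mul_dc ht h2) h0 using 1
  group

theorem cell_right {b g : Y} {w : W} (hb : b ∈ Bo S) (h : g ∈ cell U N π w) : g * b ∈ cell U N π w := by
  simpa using cell_inv S (cell_left S (inv_mem hb) (cell_inv S h))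

theorem ic_left {b : Y} (hb : b ∈ Bo S) (w : W) (g : Y) : ic U N π w (b * g) = ic U N π w g :=
  ic_congr ⟨fun h => by simpa using cell_left S (inv_mem hb) h, cell_left S hb⟩

theorem ic_right {b : Y} (hb : b ∈ Bo S) (w : W) (g : Y) : ic U N π w (g * b) = ic U N π w g :=
  ic_congr ⟨fun h => by simpa using cell_right S (inv_mem hb) h, cell_right S hb⟩

theorem n_cell (i : I) : n i ∈ cell U N π (cs.simple i) := ⟨_, S.n_mem i, S.π_n i, self_mem_dc _ _⟩

theorem unsq {i : I} {g : Y} {w : W} (h : g * n i * n i ∈ cell U N π w) : g ∈ cell U N π w := by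
  simpa [mul_assoc] using cell_right S (inv_mem (T_le S (S.n_sq i))) h

section step

variable {i : I} {v : W} (hl : cs.length v < cs.length (v * cs.simple i))

include hl

theorem ex_iff {g : Y} : g ∈ cell U N π (v * cs.simple i) ↔ ∃ ξ ∈ X i, g * ξ * n i ∈ cell U N π v := by
  constructor
  · rintro ⟨a, ha, h1, h2⟩
    have hb : a * (n i)⁻¹ ∈ N := mul_mem ha (inv_mem (S.n_mem i))
    obtain ⟨g', h3, ξ, hξ, rfl⟩ := S.step_down (i := i) (a := a * (n i)⁻¹) (by simpa using h2)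
    refine ⟨ξ⁻¹, inv_mem hξ, ?_⟩
    have h4 : g' ∈ cell U N π v := ⟨_, hb, by
      rw [S.π_mul _ ha _ (inv_mem (S.n_mem i)), S.π_inv (S.n_mem i), S.π_n, h1, mul_inv_cancel_right], h3⟩
    simpa [mul_assoc] using cell_right S (T_le S (S.n_sq i)) h4
  · rintro ⟨ξ, hξ, a, ha, rfl, h2⟩
    have h3 := unsq S (g := g * ξ) ⟨_, mul_mem ha (S.n_mem i), by rw [S.π_mul _ ha _ (S.n_mem i), S.π_n],
      S.step_up ha hl h2⟩
    simpa using cell_right S (inv_mem (U_le S (S.X_le i hξ))) h3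

theorem uq {g ξ ξ' : Y} (hξ : ξ ∈ X i) (hξ' : ξ' ∈ X i) (h : g * ξ * n i ∈ cell U N π v)
    (h' : g * ξ' * n i ∈ cell U N π v) : ξ = ξ' := by
  have key : ∀ ζ, g * ζ * n i ∈ cell U N π v → g * ζ * (n i)⁻¹ ∈ cell U N π v := fun ζ hζ =>
    unsq S (i := i) (by simpa using hζ)
  obtain ⟨a, ha, rfl, h1⟩ := key ξ h
  obtain ⟨b, hb, h0, h2⟩ := key ξ' h'
  have h3 := dc_mul_right (S.step_up ha hl h1) (inv_mem (S.X_le i hξ))
  have h4 := dc_mul_right (S.step_up hb (h0 ▸ hl) h2) (inv_mem (S.X_le i hξ'))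
  simp only [inv_mul_cancel_right, mul_inv_cancel_right] at h3 h4
  obtain rfl : a = b := mul_right_cancel (S.dc_uniq (mul_mem ha (S.n_mem i)) (mul_mem hb (S.n_mem i)) h3 h4)
  exact inv_injective (S.step_uniq ha hl h1 h2 (inv_mem hξ) (inv_mem hξ') (by simp))

theorem sumA [Fintype (X i)] (g : Y) : ∑ ξ : X i, ic U N π v (g * ξ * n i) = ic U N π (v * cs.simple i) g := by
  unfold ic
  split_ifs with h
  · obtain ⟨ξ, hξ, h1⟩ := (ex_iff S hl).1 h
    rw [Finset.sum_eq_single ⟨ξ, hξ⟩ (fun ζ _ h2 => if_neg fun h3 => h2 (Subtype.ext (uq S hl ζ.2 hξ h3 h1))) (by simp),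
      if_pos h1]
  · exact Finset.sum_eq_zero fun ξ _ => if_neg fun h1 => h ((ex_iff S hl).2 ⟨ξ, ξ.2, h1⟩)

end step

omit S in
theorem len_one (i : I) : cs.length 1 < cs.length (1 * cs.simple i) := by
  rw [one_mul, length_one, length_simple]
  exact one_pos

theorem two {i : I} {g : Y} (h : g ∈ cell U N π 1 ∨ g ∈ cell U N π (cs.simple i)) :
    g * n i ∈ cell U N π 1 ∨ g * n i ∈ cell U N π (cs.simple i) := by
  rcases h with h | h
  · exact .inr (cell_left S ((cell_one S).1 h) (n_cell S i))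
  obtain ⟨ξ, hξ, h1⟩ := (ex_iff S (len_one i)).1 (by rwa [one_mul])
  by_cases h2 : ξ = 1
  · exact .inl (by simpa [h2] using h1)
  obtain ⟨a, ha, t, ht, b, hb, e⟩ := S.rk1 i _ (inv_mem hξ) (by simpa using h2)
  have h3 := cell_left S (mul_mem ((cell_one S).1 h1) (inv_mem (T_le S (S.n_sq i))))
    (cell_right S (U_le S (S.X_le i hb)) (cell_left S (mul_mem (U_le S (S.X_le i ha)) (T_le S ht)) (n_cell S i)))
  rw [← e] at h3
  exact .inr (by convert h3 using 1; group)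

theorem ic_two (i : I) (g : Y) :
    ic U N π (cs.simple i) (g * n i) + ic U N π 1 (g * n i) = ic U N π (cs.simple i) g + ic U N π 1 g := by
  have h0 : ∀ z, z ∈ cell U N π 1 → z ∉ cell U N π (cs.simple i) := fun z h1 h2 => by
    have h3 := len_one (cs := cs) i
    rw [one_mul, ← cell_uniq S h1 h2] at h3
    exact lt_irrefl _ h3
  have h1 := two S (i := i) (g := g)
  have h2 : g * n i ∈ cell U N π 1 ∨ g * n i ∈ cell U N π (cs.simple i) →
      g ∈ cell U N π 1 ∨ g ∈ cell U N π (cs.simple i) := fun h => (two S h).imp (unsq S) (unsq S)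
  have h3 := h0 g
  have h4 := h0 (g * n i)
  unfold ic
  split_ifs <;> tauto

theorem sumB (i : I) [Fintype (X i)] (g : Y) : ∑ ξ : X i, ic U N π (cs.simple i) (g * ξ * n i) =
    (Nat.card (X i) - 1) * ic U N π (cs.simple i) g + Nat.card (X i) * ic U N π 1 g := by
  have h1 := sumA S (len_one i) g
  have h2 : ∑ ξ : X i, (ic U N π (cs.simple i) (g * ξ * n i) + ic U N π 1 (g * ξ * n i)) =
      Nat.card (X i) * (ic U N π (cs.simple i) g + ic U N π 1 g) := by
    rw [Finset.sum_congr rfl fun (ξ : X i) _ => by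
      rw [ic_two S, ic_right S (U_le S (S.X_le i ξ.2)), ic_right S (U_le S (S.X_le i ξ.2))], Finset.sum_const,
      Finset.card_univ, nsmul_eq_mul, Nat.card_eq_fintype_card]
  rw [Finset.sum_add_distrib, h1, one_mul] at h2
  linear_combination h2

theorem Tm_mk (w : W) (x y : G) : Tm S w (x : Fl S) (y : Fl S) = ic U N π w ((x : Y)⁻¹ * y) := by
  obtain ⟨b, hb⟩ := QuotientGroup.mk_out_eq_mul ((Bo S).subgroupOf G) x
  obtain ⟨c, hc⟩ := QuotientGroup.mk_out_eq_mul ((Bo S).subgroupOf G) y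
  unfold Tm
  rw [hb, hc, Subgroup.coe_mul, Subgroup.coe_mul, mul_inv_rev, ← mul_assoc,
    ic_right S (Subgroup.mem_subgroupOf.1 c.2), mul_assoc, ic_left S (inv_mem (Subgroup.mem_subgroupOf.1 b.2))]

theorem Tm_one [DecidableEq (Fl S)] : Tm S 1 = 1 := by
  ext x y
  induction x using QuotientGroup.induction_on with | H x => ?_
  induction y using QuotientGroup.induction_on with | H y => ?_
  rw [Tm_mk, Matrix.one_apply]
  by_cases h : (x : Fl S) = y
  · rw [if_pos h]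
    exact if_pos ((cell_one S).2 (Subgroup.mem_subgroupOf.1 (QuotientGroup.eq.1 h)))
  · rw [if_neg h]
    exact if_neg fun h1 => h (QuotientGroup.eq.2 (Subgroup.mem_subgroupOf.2 ((cell_one S).1 h1)))

/-- the neighbours of a flag -/
def nb (i : I) (x : G) (ξ : X i) : G := x * ⟨ξ * n i, mul_mem (S.U_le (S.X_le i ξ.2)) (S.N_le (S.n_mem i))⟩

theorem Ts_mul [Fintype (Fl S)] (i : I) [Fintype (X i)] (w : W) (x y : G) :
    (Tm S (cs.simple i) * Tm S w) (x : Fl S) (y : Fl S) = ∑ ξ : X i, ic U N π w⁻¹ ((y : Y)⁻¹ * x * ξ * n i) := by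
  classical
  have h1 : ∀ z : Fl S, Tm S (cs.simple i) (x : Fl S) z = ∑ ξ : X i, if z = (nb S i x ξ : Fl S) then 1 else 0 := by
    intro z
    induction z using QuotientGroup.induction_on with | H z => ?_
    rw [Tm_mk, ← ic_inv S, inv_simple, ← one_mul (cs.simple i), ← sumA S (len_one i)]
    refine Finset.sum_congr rfl fun ξ _ => ?_
    rw [← Matrix.one_apply, ← Tm_one, Tm_mk]
    simp [nb, mul_assoc]
  simp only [Matrix.mul_apply, h1, Finset.sum_mul, ite_mul, one_mul, zero_mul]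
  rw [Finset.sum_comm]
  refine Finset.sum_congr rfl fun ξ _ => ?_
  rw [Finset.sum_ite_eq', if_pos (Finset.mem_univ _), Tm_mk, ← ic_inv S]
  simp [nb, mul_assoc]

theorem Tm_up [Fintype (Fl S)] [Finite G] (i : I) (w : W) (h : cs.length w < cs.length (cs.simple i * w)) :
    Tm S (cs.simple i) * Tm S w = Tm S (cs.simple i * w) := by
  have : Finite (X i) := Finite.of_injective _ (Subgroup.inclusion_injective ((S.X_le i).trans S.U_le))
  have := Fintype.ofFinite (X i)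
  have h1 : w⁻¹ * cs.simple i = (cs.simple i * w)⁻¹ := by rw [mul_inv_rev, inv_simple]
  ext x y
  induction x using QuotientGroup.induction_on with | H x => ?_
  induction y using QuotientGroup.induction_on with | H y => ?_
  rw [Ts_mul, sumA S (by rwa [h1, length_inv, length_inv]), Tm_mk, h1, ← ic_inv S (cs.simple i * w), mul_inv_rev (x : Y)⁻¹,
    inv_inv]

theorem Tm_sq [Fintype (Fl S)] [DecidableEq (Fl S)] [Finite G] (i : I) : Tm S (cs.simple i) * Tm S (cs.simple i) =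
    ((Nat.card (X i) : ℤ) - 1) • Tm S (cs.simple i) + (Nat.card (X i) : ℤ) • (1 : Matrix _ _ ℤ) := by
  have : Finite (X i) := Finite.of_injective _ (Subgroup.inclusion_injective ((S.X_le i).trans S.U_le))
  have := Fintype.ofFinite (X i)
  ext x y
  induction x using QuotientGroup.induction_on with | H x => ?_
  induction y using QuotientGroup.induction_on with | H y => ?_
  rw [Ts_mul, inv_simple, sumB S, ← Tm_one, Matrix.add_apply, Matrix.smul_apply, Matrix.smul_apply, Tm_mk, Tm_mk,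
    ← ic_inv S (cs.simple i) ((x : Y)⁻¹ * y), ← ic_inv S 1 ((x : Y)⁻¹ * y), inv_simple, inv_one, mul_inv_rev, inv_inv,
    smul_eq_mul, smul_eq_mul]

section count

variable [Fintype G] {Q : ℕ} (hQ : ∀ i, Nat.card (X i) = Q)

include hQ

theorem sum_ic {a : Y} (ha : a ∈ N) :
    ∑ z : G, ic U N π (π a) z = Nat.card T * (Nat.card U * Q ^ cs.length (π a) : ℕ) := by
  classical
  unfold ic
  rw [sum_ite_card G (· ∈ cell U N π (π a)), ← S.card_dc hQ ha, ← Nat.cast_mul, ← Nat.card_prod]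
  refine congrArg _ (Nat.card_eq_of_bijective (fun z : T × dc U a => (⟨z.1 * z.2,
    mul_mem (S.N_le (S.T_le z.1.2)) (S.dc_le ha z.2.2), cell_left S (T_le S z.1.2) ⟨a, ha, rfl, z.2.2⟩⟩ :
      {z : Y // z ∈ G ∧ z ∈ cell U N π (π a)})) ⟨?_, ?_⟩).symm
  · rintro ⟨⟨t, ht⟩, ⟨g, hg⟩⟩ ⟨⟨t', ht'⟩, ⟨g', hg'⟩⟩ e
    have e1 : t * g = t' * g' := congrArg Subtype.val e
    obtain rfl : t = t' := mul_right_cancel (S.dc_uniq (mul_mem (S.T_le ht) ha) (mul_mem (S.T_le ht') ha)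
      (S.T_mul_dc ht hg) (e1 ▸ S.T_mul_dc ht' hg'))
    obtain rfl : g = g' := mul_left_cancel e1
    rfl
  · rintro ⟨g, hg, b, hb, h1, h2⟩
    have h3 := S.mem_T_of_π_eq hb ha h1
    exact ⟨(⟨_, h3⟩, ⟨(b * a⁻¹)⁻¹ * g, by simpa using S.T_mul_dc (inv_mem h3) h2⟩), Subtype.ext (mul_inv_cancel_left _ _)⟩

theorem card_Bo : (Nat.card (Bo S) : ℤ) = Nat.card T * Nat.card U := by
  classical
  have h := sum_ic S hQ (one_mem N)
  unfold ic at h
  rw [S.π_one, sum_ite_card G (· ∈ cell U N π 1), length_one, pow_zero, mul_one] at h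
  rw [← h]
  exact congrArg _ (Nat.card_congr (Equiv.subtypeEquivRight fun z =>
    ⟨fun h => ⟨Bo_le S h, (cell_one S).2 h⟩, fun h => (cell_one S).1 h.2⟩))

omit hQ [Fintype G] in
theorem kap_eq [Fintype (Bo S)] {a : Y} (ha : a ∈ N) (z : Y) :
    ∑ b : Bo S, ic U N π 1 (z * b * a⁻¹) = ic U N π (π a) z * ∑ b : Bo S, ic U N π 1 (a * b * a⁻¹) := by
  by_cases h : z ∈ cell U N π (π a)
  · rw [show ic U N π (π a) z = 1 from if_pos h, one_mul]
    obtain ⟨c, hc, h1, u, hu, v, hv, rfl⟩ := h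
    rw [← Equiv.sum_comp (Equiv.mulLeft (⟨v, U_le S hv⟩ : Bo S)) fun b : Bo S => ic U N π 1 (a * b * a⁻¹)]
    refine Finset.sum_congr rfl fun b _ => ?_
    rw [← ic_left S (mul_mem (U_le S hu) (T_le S (S.mem_T_of_π_eq hc ha h1))) 1 (a * _ * a⁻¹)]
    simp [mul_assoc]
  · rw [show ic U N π (π a) z = 0 from if_neg h, zero_mul]
    refine Finset.sum_eq_zero fun b _ => if_neg fun h1 => h ?_
    simpa using cell_right S (inv_mem b.2) (cell_left S ((cell_one S).1 h1) ⟨a, ha, rfl, self_mem_dc _ _⟩)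

theorem kap_val [Fintype (Bo S)] {a : Y} (ha : a ∈ N) :
    (Q : ℤ) ^ cs.length (π a) * ∑ b : Bo S, ic U N π 1 (a * b * a⁻¹) = Nat.card (Bo S) := by
  have h1 : ∑ z : G, ∑ b : Bo S, ic U N π 1 (z * b * a⁻¹) = Nat.card (Bo S) * (Nat.card T * Nat.card U) := by
    rw [Finset.sum_comm, Finset.sum_congr rfl fun (b : Bo S) _ => show _ = (Nat.card T * Nat.card U : ℤ) from ?_,
      Finset.sum_const, Finset.card_univ, nsmul_eq_mul, ← Nat.card_eq_fintype_card]
    have h := sum_ic S hQ (one_mem N)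
    rw [S.π_one, length_one, pow_zero, mul_one] at h
    rw [← h, ← Equiv.sum_comp (Equiv.mulRight (⟨b * a⁻¹, mul_mem (Bo_le S b.2) (inv_mem (S.N_le ha))⟩ : G))
      fun z : G => ic U N π 1 z]
    simp [mul_assoc]
  have h2 : (Nat.card T * Nat.card U : ℤ) ≠ 0 := by
    rw [← card_Bo S hQ]
    exact Nat.cast_ne_zero.2 Nat.card_pos.ne'
  rw [Finset.sum_congr rfl fun (z : G) _ => kap_eq S ha z, ← Finset.sum_mul, sum_ic S hQ ha] at h1
  push_cast at h1
  exact mul_left_cancel₀ h2 (by linear_combination h1)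

/-- **the Hecke matrices and the trace formula** -/
theorem hecke {F : MulAut Y} {ψ : MulAut W} (hG : ∀ g ∈ G, F g ∈ G) (hU : ∀ u ∈ U, F u ∈ U) (hN : ∀ a ∈ N, F a ∈ N)
    (hπ : ∀ a ∈ N, π (F a) = ψ (π a)) {h : Y} (hh : h ∈ G) :
    ∃ (Z : Type) (_ : Fintype Z) (_ : DecidableEq Z) (H : W → Matrix Z Z ℤ) (P : Matrix Z Z ℤ), H 1 = 1 ∧
      (∀ i w, cs.length w < cs.length (cs.simple i * w) → H (cs.simple i) * H w = H (cs.simple i * w)) ∧
      (∀ i, H (cs.simple i) * H (cs.simple i) = ((Q : ℤ) - 1) • H (cs.simple i) + (Q : ℤ) • (1 : Matrix Z Z ℤ)) ∧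
      (∀ v, P * H v = H (ψ v) * P) ∧
      ∀ a ∈ N, (Q : ℤ) ^ cs.length (π a) * Nat.card {x : Y // x ∈ G ∧ ∃ t ∈ T, x⁻¹ * h * F x * a⁻¹ * t⁻¹ ∈ U} =
        Nat.card T * Nat.card U * (H (π a) * P).trace := by
  classical
  have := Fintype.ofFinite (Fl S)
  have : Finite (Bo S) := Finite.of_injective _ (Subgroup.inclusion_injective (Bo_le S))
  have := Fintype.ofFinite (Bo S)
  have h1 : ∀ w g, g ∈ cell U N π w → F g ∈ cell U N π (ψ w) := by
    rintro _ _ ⟨a, ha, rfl, u, hu, v, hv, rfl⟩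
    exact ⟨F a, hN a ha, hπ a ha, F u, hU u hu, F v, hU v hv, by rw [map_mul, map_mul]⟩
  have h2 : ∀ w, ∀ g ∈ G, ic U N π (ψ w) (F g) = ic U N π w g := fun w g hg => by
    refine ic_congr ⟨fun h3 => ?_, h1 w g⟩
    obtain ⟨u, hu, a, ha, v, hv, e⟩ := S.cover g hg
    have h4 : g ∈ cell U N π (π a) := ⟨a, ha, rfl, u, hu, v, hv, e⟩
    rwa [ψ.injective (cell_uniq S h3 (h1 _ _ h4))]
  have h3 : ∀ b ∈ Bo S, F b ∈ Bo S := fun b hb => (cell_one S).1 (map_one ψ ▸ h1 1 b ((cell_one S).2 hb))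
  let φ : G → G := fun x => ⟨h * F x, mul_mem hh (hG _ x.2)⟩
  let e : Fl S → Fl S := fun x => (φ x.out : Fl S)
  have h4 : ∀ w x y, Tm S (ψ w) (e x) (e y) = Tm S w x y := fun w x y => by
    rw [Tm_mk, Tm, ← h2 w _ (mul_mem (inv_mem x.out.2) y.out.2)]
    simp [φ, mul_assoc]
  have h5 : Function.Surjective e := Finite.surjective_of_injective fun x y hxy => by
    have h6 := h4 1 x y
    rw [map_one, Tm_one, hxy, Matrix.one_apply_eq, Matrix.one_apply] at h6
    by_contra h7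
    rw [if_neg h7] at h6
    exact one_ne_zero h6
  have h6 := Finite.injective_iff_surjective.2 h5
  refine ⟨Fl S, inferInstance, inferInstance, Tm S, Pm e, Tm_one S, Tm_up S, fun i => by rw [Tm_sq, hQ], fun v => ?_,
    fun a ha => ?_⟩
  · ext x y
    obtain ⟨x, rfl⟩ := h5 x
    simp [Matrix.mul_apply, Pm, h6.eq_iff, h4]
  have h7 : (Tm S (π a) * Pm e).trace = ∑ x, Tm S (π a) x (e x) := by simp [Matrix.trace, Matrix.mul_apply, Pm]
  have h8 : ∀ x : G, Tm S (π a) (x : Fl S) (e x) = ic U N π (π a) ((x : Y)⁻¹ * h * F x) := fun x => by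
    obtain ⟨b, hb⟩ := QuotientGroup.mk_out_eq_mul ((Bo S).subgroupOf G) x
    rw [Tm_mk, ← ic_right S (h3 _ b.2) (π a) ((x : Y)⁻¹ * h * F x)]
    simp [φ, hb, mul_assoc]
  have h9 := sum_quot ((Bo S).subgroupOf G) fun x => Tm S (π a) x (e x)
  simp only [h8] at h9
  rw [Nat.card_congr (Subgroup.subgroupOfEquivOfLe (Bo_le S)).toEquiv, ← h7] at h9
  have h10 : ∑ b : Bo S, ∑ x : G, ic U N π 1 ((x : Y)⁻¹ * h * F x * F b * a⁻¹) =
      Nat.card (Bo S) * ∑ x : G, ic U N π 1 ((x : Y)⁻¹ * h * F x * a⁻¹) := by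
    rw [Finset.sum_congr rfl fun (b : Bo S) _ => show _ = ∑ x : G, ic U N π 1 ((x : Y)⁻¹ * h * F x * a⁻¹) from ?_,
      Finset.sum_const, Finset.card_univ, nsmul_eq_mul, ← Nat.card_eq_fintype_card]
    rw [← Equiv.sum_comp (Equiv.mulRight (⟨b, Bo_le S b.2⟩ : G)) fun x : G => ic U N π 1 ((x : Y)⁻¹ * h * F x * a⁻¹)]
    refine Finset.sum_congr rfl fun x _ => ?_
    rw [← ic_left S (inv_mem b.2)]
    simp [mul_assoc]
  have h11 : Function.Bijective fun b : Bo S => (⟨F b, h3 _ b.2⟩ : Bo S) :=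
    Finite.injective_iff_bijective.1 fun b c e => Subtype.ext (F.injective (congrArg Subtype.val e))
  rw [Finset.sum_comm, Finset.sum_congr rfl fun (x : G) _ =>
    (h11.sum_comp fun b : Bo S => ic U N π 1 ((x : Y)⁻¹ * h * F x * b * a⁻¹)).trans (kap_eq S ha _), ← Finset.sum_mul,
    h9] at h10
  have h12 : (Nat.card (Bo S) : ℤ) ≠ 0 := Nat.cast_ne_zero.2 Nat.card_pos.ne'
  have h13 : ∑ x : G, ic U N π 1 ((x : Y)⁻¹ * h * F x * a⁻¹) =
      Nat.card {x : Y // x ∈ G ∧ ∃ t ∈ T, x⁻¹ * h * F x * a⁻¹ * t⁻¹ ∈ U} := by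
    rw [← sum_ite_card]
    exact Finset.sum_congr rfl fun x _ => if_congr (cell_one S) rfl rfl
  rw [← h13, ← card_Bo S hQ]
  refine mul_left_cancel₀ h12 ?_
  linear_combination (-(Q : ℤ) ^ cs.length (π a)) * h10 +
    Nat.card (Bo S) * (Tm S (π a) * Pm e).trace * kap_val S hQ ha

end count

end Cfsg.Agent.LV.T.Sh
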