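import Cfsg.Agent.LV.T.Defs

/-!
# Tools for the generic Hecke algebra (project LV; helper8)

Base change `bc`, the group algebra `q = 1`, the anti-involution `st`, the twist `twH`, the parabolic subalgebras `HJ`,
self-adjoint nilpotent elements.
-/

set_option autoImplicit false
set_option linter.unusedSectionVars false
set_option linter.dupNamespace false

namespace Cfsg.Agent.LV.T

open CoxeterSystem Cfsg.Agent.Tits.Exchange Cfsg.Agent.Tits.Core Polynomial
open Cfsg.Agent.H157.HK (lenL lenR reduced_tail wd wd_reduced wd_prod)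

variable {I W : Type*} {M : CoxeterMatrix I} [Group W] {cs : CoxeterSystem M W} [Fintype W]

section gen

variable {R R' : Type*} [CommRing R] [CommRing R'] {q : R} {q' : R'}

theorem co_sum_T (v : W → R) (g : W ≃ W) (w : W) : co (∑ u, v u • T cs q (g u)) (g w) = v w := by
  rw [co_sum, Finset.sum_apply, Finset.sum_eq_single w]
  · rw [co_smul, co_T, Pi.smul_apply, ev_self, smul_eq_mul, mul_one]
  · intro u _ hu
    rw [co_smul, co_T, Pi.smul_apply, ev_ne fun h => hu (g.injective h).symm, smul_zero]
  · simp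

theorem smul_cancel [IsDomain R] {c : R} (hc : c ≠ 0) {a b : Hk cs q} (h : c • a = c • b) : a = b := by
  refine co_inj (funext fun w => mul_left_cancel₀ hc ?_)
  have := congrFun (congrArg co h) w
  rwa [co_smul, co_smul] at this

variable (cs) in
/-- base change -/
noncomputable def bc (f : R →+* R') (h : f q = q') : Hk cs q →+* Hk cs q' :=
  Rep.lift (f := f) (τ := T cs q') (h ▸ rep_T cs q')

theorem co_bc (f : R →+* R') (h : f q = q') (a : Hk cs q) (w : W) : co (bc cs f h a) w = f (co a w) :=
  congrFun (co_mk cs q' fun w => f (co a w)) w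

theorem bc_T (f : R →+* R') (h : f q = q') (w : W) : bc cs f h (T cs q w) = T cs q' w := Rep.lift_T _ w

theorem bc_smul (f : R →+* R') (h : f q = q') (c : R) (a : Hk cs q) : bc cs f h (c • a) = f c • bc cs f h a :=
  Rep.lift_smul _ c a

theorem bc_aeval (f : R →+* R') (h : f q = q') (a : Hk cs q) (P : R[X]) :
    bc cs f h (aeval a P) = aeval (bc cs f h a) (P.map f) := by
  refine map_aeval_eq_aeval_map (RingHom.ext fun c => ?_) P a
  rw [RingHom.comp_apply, RingHom.comp_apply, Algebra.algebraMap_eq_smul_one, Algebra.algebraMap_eq_smul_one, bc_smul,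
    map_one]

/-! ### the group algebra -/

theorem T_mul_one (u w : W) : T cs (1 : R) u * T cs 1 w = T cs 1 (u * w) := by
  induction u using cs.simple_induction_left with
  | one => rw [T_one, one_mul, one_mul]
  | mul_simple_left u i ih =>
    have h : ∀ x, T cs (1 : R) (cs.simple i) * T cs 1 x = T cs 1 (cs.simple i * x) := fun x => by
      rcases lenL cs i x with h1 | h1
      · exact (rep_T cs 1).up i x (by omega)
      · rw [(rep_T cs 1).down (by omega), sub_self, zero_smul, one_smul, zero_add]
    rw [← h, mul_assoc, ih, h, mul_assoc]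

/-- the pairing with a function -/
noncomputable def pr (y : W → R) : Hk cs q →ₗ[R] R where
  toFun a := ∑ u, co a u * y u
  map_add' a b := by simp only [co_add, Pi.add_apply, add_mul, Finset.sum_add_distrib]
  map_smul' c a := by simp only [co_smul, Pi.smul_apply, smul_eq_mul, RingHom.id_apply, Finset.mul_sum, mul_assoc]

theorem pr_apply (y : W → R) (a : Hk cs q) : pr y a = ∑ u, co a u * y u := rfl

theorem pr_T (y : W → R) (w : W) : pr y (T cs q w) = y w := by
  rw [pr_apply, co_T]
  exact sum_ev_smul (RingHom.id R) y w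

theorem pr_mul_T (y : W → R) (a : Hk cs (1 : R)) (w : W) : pr y (a * T cs 1 w) = pr (fun u => y (u * w)) a := by
  conv_lhs => rw [eq_sum a, Finset.sum_mul, map_sum]
  rw [pr_apply]
  exact Finset.sum_congr rfl fun u _ => by rw [smul_mul_assoc, map_smul, T_mul_one, pr_T, smul_eq_mul]

theorem pr_T_mul (y : W → R) (a : Hk cs (1 : R)) (w : W) : pr y (T cs 1 w * a) = pr (fun u => y (w * u)) a := by
  conv_lhs => rw [eq_sum a, Finset.mul_sum, map_sum]
  rw [pr_apply]
  exact Finset.sum_congr rfl fun u _ => by rw [mul_smul_comm, map_smul, T_mul_one, pr_T, smul_eq_mul]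

/-! ### the anti-involution -/

variable (cs q) in
theorem rep_op : Rep cs ((RingHom.id R) q) fun w => MulOpposite.op (T cs q w⁻¹) where
  one := by rw [inv_one, T_one, MulOpposite.op_one]
  up i w h := by
    rw [← MulOpposite.op_mul, mul_inv_rev, cs.inv_simple, (rep_T cs q).up']
    rwa [← cs.inv_simple i, ← mul_inv_rev, cs.length_inv, cs.length_inv]
  sq i := by
    rw [← MulOpposite.op_mul, cs.inv_simple, (rep_T cs q).sq, MulOpposite.op_add, MulOpposite.op_smul,
      MulOpposite.op_smul, MulOpposite.op_one, RingHom.id_apply]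

/-- the anti-involution -/
noncomputable def st (a : Hk cs q) : Hk cs q := ((rep_op cs q).lift a).unop

theorem st_mul (a b : Hk cs q) : st (a * b) = st b * st a := by rw [st, map_mul, MulOpposite.unop_mul, st, st]

theorem st_T (w : W) : st (T cs q w) = T cs q w⁻¹ := by rw [st, Rep.lift_T, MulOpposite.unop_op]

theorem co_st (a : Hk cs q) (w : W) : co (st a) w⁻¹ = co a w := by
  rw [st, Rep.lift_apply, Finset.unop_sum]
  exact co_sum_T (co a) (Equiv.inv W) w

/-- self-adjoint elements which commute with `z` and each other are handled through polynomials in one element -/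
theorem st_aeval {a : Hk cs q} (ha : st a = a) (P : R[X]) : st (aeval a P) = aeval a P := by
  induction P using Polynomial.induction_on with
  | C c => rw [aeval_C, Algebra.algebraMap_eq_smul_one, st, Rep.lift_smul, map_one]; rfl
  | add P Q hP hQ => rw [map_add, st, map_add, MulOpposite.unop_add, ← st, ← st, hP, hQ]
  | monomial n c h =>
    rw [pow_succ, ← mul_assoc, map_mul, aeval_X, st_mul, h, ha]
    have h2 : aeval a (X * (C c * X ^ n)) = aeval a (C c * X ^ n * X) := by rw [mul_comm]
    rwa [map_mul, map_mul _ _ X, aeval_X] at h2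

theorem T_apply_up (u : W) (v : W → R) (x : W) (h : cs.length (u⁻¹ * x) = cs.length u + cs.length x) :
    (T cs q u : Module.End R (W → R)) v x = q ^ cs.length u * v (u⁻¹ * x) := by
  obtain ⟨ω, hω, rfl⟩ := cs.exists_isReduced u
  rw [← Tw_eq cs q hω]
  induction ω generalizing x with
  | nil => simp [Tw_nil]
  | cons i ω ih =>
    have h1 := reduced_tail cs hω
    rw [hω.eq, List.length_cons, wordProd_cons, mul_inv_rev, cs.inv_simple, mul_assoc] at h
    have h2 := cs.length_mul_le (cs.wordProd ω)⁻¹ (cs.simple i * x)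
    rw [cs.length_inv, h1.eq] at h2
    have h3 := lenL cs i x
    have h4 : (Tw cs q (i :: ω) : Module.End R (W → R)) v x =
        Lo cs q i ((Tw cs q ω : Module.End R (W → R)) v) x := by rw [Tw_cons]; rfl
    rw [h4, Lo_apply, if_neg (by omega), ih _ h1 (by rw [h1.eq]; omega), hω.eq, h1.eq, List.length_cons, wordProd_cons,
      mul_inv_rev, cs.inv_simple, mul_assoc, pow_succ]
    ring

theorem co_mul_one (a b : Hk cs q) : co (a * b) 1 = ∑ u, q ^ cs.length u * (co a u * co b u⁻¹) := by
  conv_lhs => rw [eq_sum a, Finset.sum_mul, co_sum, Finset.sum_apply]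
  refine Finset.sum_congr rfl fun u _ => ?_
  rw [smul_mul_assoc, co_smul, Pi.smul_apply, co_mul, T_apply_up u _ 1 (by simp), mul_one, smul_eq_mul]
  ring

end gen

theorem eq_zero_of_sq {a : Hk cs (X : ℤ[X])} (ha : st a = a) (h : a * a = 0) : a = 0 := by
  have h1 := co_mul_one a a
  rw [h, co_zero, Pi.zero_apply] at h1
  refine co_inj (funext fun w => ?_)
  refine eq_zero_of_infinite_isRoot _ (Set.Infinite.mono (s := Set.Ioi 0) (fun t ht => ?_) (Set.Ioi_infinite 0))
  have ht' : (0 : ℤ) < t := ht
  have h2 := congrArg (eval t) h1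
  rw [eval_zero, eval_finsetSum] at h2
  have h3 : ∀ u, eval t (X ^ cs.length u * (co a u * co a u⁻¹)) = t ^ cs.length u * eval t (co a u) ^ 2 := fun u => by
    conv_lhs => rw [← ha, co_st, ha]
    rw [eval_mul, eval_mul, eval_pow, eval_X, sq]
  simp only [h3] at h2
  have h4 := (Finset.sum_eq_zero_iff_of_nonneg fun u _ => by positivity).1 h2.symm w (Finset.mem_univ w)
  exact pow_eq_zero_iff two_ne_zero |>.1 ((mul_eq_zero.1 h4).resolve_left (by positivity))

/-- self-adjoint nilpotent elements vanish -/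
theorem eq_zero_of_pow {a : Hk cs (X : ℤ[X])} (ha : st a = a) {k : ℕ} (h : a ^ (k + 1) = 0) : a = 0 := by
  induction k with
  | zero => rwa [zero_add, pow_one] at h
  | succ k ih =>
    refine ih (eq_zero_of_sq ?_ ?_)
    · have := st_aeval ha (X ^ (k + 1))
      rwa [map_pow, aeval_X] at this
    · rw [← pow_add, show k + 1 + (k + 1) = (k + 1 + 1) + k by ring, pow_add, h, zero_mul]

section tw

variable {R : Type*} [CommRing R] {q : R} {ψ : MulAut W}

theorem Aut.length_le (h : Aut cs ψ) (w : W) : cs.length (ψ w) ≤ cs.length w := by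
  choose σ hσ using h
  obtain ⟨ω, hω, rfl⟩ := cs.exists_isReduced w
  have h1 : ∀ ω : List I, ψ (cs.wordProd ω) = cs.wordProd (ω.map σ) := fun ω => by
    induction ω with
    | nil => simp
    | cons i ω ih => rw [wordProd_cons, map_mul, hσ, ih, List.map_cons, wordProd_cons]
  rw [h1, hω.eq]
  exact (cs.length_wordProd_le _).trans (List.length_map σ).le

theorem Aut.length (h : Aut cs ψ) (w : W) : cs.length (ψ w) = cs.length w :=
  (Finset.sum_eq_sum_iff_of_le fun w _ => h.length_le w).1
    (Fintype.sum_equiv ψ.toEquiv _ _ fun _ => rfl) w (Finset.mem_univ w)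

variable (q) in
theorem Aut.rep (h : Aut cs ψ) : Rep cs ((RingHom.id R) q) fun w => T cs q (ψ w) where
  one := by rw [map_one, T_one]
  up i w hl := by
    obtain ⟨j, hj⟩ := h i
    rw [map_mul, hj]
    refine (rep_T cs q).up j _ ?_
    rwa [← hj, ← map_mul, h.length, h.length]
  sq i := by
    obtain ⟨j, hj⟩ := h i
    rw [hj]
    exact (rep_T cs q).sq j

theorem Aut.tw_eq (h : Aut cs ψ) (a : Hk cs q) : tw ψ a = (h.rep q).lift a := rfl

/-- the elements which commute with `T_u ψ` -/
noncomputable def Aut.TC (h : Aut cs ψ) (q : R) (u : W) : Subalgebra R (Hk cs q) where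
  carrier := {a | a * T cs q u = T cs q u * tw ψ a}
  mul_mem' {a b} (ha : a * _ = _) (hb : b * _ = _) := by
    show a * b * _ = _
    rw [mul_assoc, hb, ← mul_assoc, ha, h.tw_eq (a * b), map_mul, mul_assoc]
    rfl
  add_mem' {a b} (ha : a * _ = _) (hb : b * _ = _) := by
    show (a + b) * _ = _
    rw [add_mul, ha, hb, h.tw_eq (a + b), map_add, mul_add]
    rfl
  algebraMap_mem' c := by
    show algebraMap _ _ c * _ = _
    rw [Algebra.algebraMap_eq_smul_one, h.tw_eq, Rep.lift_smul, map_one, smul_mul_assoc, mul_smul_comm, one_mul, mul_one]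
    rfl

theorem Aut.mem_TC (h : Aut cs ψ) {u : W} {a : Hk cs q} : a ∈ h.TC q u ↔ a * T cs q u = T cs q u * tw ψ a := Iff.rfl

theorem Aut.TC_cancel [IsDomain R] (h : Aut cs ψ) {u : W} {c : R} (hc : c ≠ 0) {a : Hk cs q}
    (ha : c • a ∈ h.TC q u) : a ∈ h.TC q u := by
  rw [h.mem_TC] at ha ⊢
  refine smul_cancel hc ?_
  rwa [smul_mul_assoc, h.tw_eq, Rep.lift_smul, mul_smul_comm] at ha

end tw

section HJ

variable {R : Type*} [CommRing R] {q : R} {J : Set I}

/-- induction over the elements supported on `W_J` -/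
theorem supp_induction {a : Hk cs q} (ha : ∀ w, w ∉ WJ cs J → co a w = 0) (S : Subalgebra R (Hk cs q))
    (hS : ∀ i ∈ J, Ts cs q i ∈ S) : a ∈ S := by
  rw [eq_sum a]
  refine S.sum_mem fun w _ => ?_
  by_cases hw : w ∈ WJ cs J
  · obtain ⟨ω, h1, h2, rfl⟩ := exists_reduced_of_mem_WJ cs hw
    rw [← Tw_eq cs q h2]
    refine S.smul_mem (S.list_prod_mem fun b hb => ?_) _
    obtain ⟨i, hi, rfl⟩ := List.mem_map.1 hb
    exact hS i (h1 i hi)
  · rw [ha w hw, zero_smul]
    exact S.zero_mem

variable (cs q J) in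
/-- the elements which keep the support in `W_J` -/
noncomputable def HJ : Subalgebra R (Hk cs q) where
  carrier := {a | ∀ b : Hk cs q, (∀ w, w ∉ WJ cs J → co b w = 0) → ∀ w, w ∉ WJ cs J → co (a * b) w = 0}
  mul_mem' {a b} ha hb c hc := by
    rw [mul_assoc]
    exact ha _ (hb c hc)
  add_mem' {a b} ha hb c hc w hw := by rw [add_mul, co_add, Pi.add_apply, ha c hc w hw, hb c hc w hw, add_zero]
  algebraMap_mem' r c hc w hw := by
    rw [Algebra.algebraMap_eq_smul_one, smul_mul_assoc, one_mul, co_smul, Pi.smul_apply, hc w hw, smul_zero]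

theorem mem_HJ {a : Hk cs q} : a ∈ HJ cs q J ↔ ∀ w, w ∉ WJ cs J → co a w = 0 := by
  constructor
  · intro h w hw
    have := h 1 (fun u hu => ev_ne fun e => hu (e ▸ one_mem _)) w hw
    rwa [mul_one] at this
  · intro h
    refine supp_induction h _ fun i hi b hb w hw => ?_
    have h1 : cs.simple i * w ∉ WJ cs J := fun h2 =>
      hw ((Subgroup.mul_mem_cancel_left _ (simple_mem_WJ cs hi)).1 h2)
    show Lo cs q i (co b) w = 0
    rw [Lo_apply, hb _ h1, hb _ hw]
    simp

theorem T_mem_HJ {w : W} (hw : w ∈ WJ cs J) : T cs q w ∈ HJ cs q J :=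
  mem_HJ.2 fun u hu => by rw [co_T]; exact ev_ne fun e => hu (e ▸ hw)

theorem HJ_cancel [IsDomain R] {c : R} (hc : c ≠ 0) {a : Hk cs q} (ha : c • a ∈ HJ cs q J) : a ∈ HJ cs q J :=
  mem_HJ.2 fun w hw => (mul_eq_zero.1 (mem_HJ.1 ha w hw)).resolve_left hc

theorem commute_of_HJ {z a : Hk cs q} (hz : ∀ i ∈ J, Commute (Ts cs q i) z) (ha : a ∈ HJ cs q J) : Commute a z := by
  have h := supp_induction (mem_HJ.1 ha) (Subalgebra.centralizer R {z}) fun i hi => by
    rw [Subalgebra.mem_centralizer_iff]
    rintro _ rfl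
    exact (hz i hi).symm.eq
  exact ((Subalgebra.mem_centralizer_iff R).1 h z rfl).symm

end HJ

end Cfsg.Agent.LV.T
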